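import Mathlib
import Cfsg.Agent.Lib.GHC.DW

/-!
Vocabulary for Sylow 2-subgroups of type `PSL₄(q)`, `q ≡ 1 (mod 4)`.  See `plans/GHC.md`, part 3.
-/

set_option autoImplicit false

namespace CfsgLib.GHC

open Subgroup Cfsg CfsgLib.W2 CfsgLib.Tech CfsgLib.PComp CfsgLib.Abel2 CfsgLib.GHA CfsgLib.DihSyl
  CfsgLib.GW.Cor
open scoped MatrixGroups commutatorElement

universe u

variable {G : Type u} [Group G] {D : Type*} [Group D]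

/-- the triples whose product lies in `D'` -/
def Dt (D : Type*) [Group D] : Subgroup (D × D × D) :=
  (Abelianization.of.comp (MonoidHom.fst D (D × D)) *
    (Abelianization.of.comp ((MonoidHom.fst D D).comp (MonoidHom.snd D (D × D))) *
      Abelianization.of.comp ((MonoidHom.snd D D).comp (MonoidHom.snd D (D × D))))).ker

open _root_.Classical in
/-- the element `(x; y, w)`; it is `1` if the triple is not admissible -/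
noncomputable def rr (ρ : Dt D →* G) (x y w : D) : G :=
  if h : (x, y, w) ∈ Dt D then ρ ⟨(x, y, w), h⟩ else 1

/-- the Sylow subgroup `S = B ⟨t⟩`, `B = ρ.range` -/
abbrev St (ρ : Dt D →* G) (t : G) : Subgroup G := ρ.range ⊔ zpowers t

/-- The Sylow 2-subgroup of order `2 n³`; `D = ⟨a, b⟩` is dihedral of order `2 n ≥ 8` with central
involution `e`. -/
structure TW (n : ℕ) (a b e : D) (ρ : Dt D →* G) (t : G) : Prop where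
  pow : ∃ k, n = 2 ^ (k + 2)
  dih : IsDih (⊤ : Subgroup D) n (a * b) a
  he : e = (a * b) ^ (n / 2)
  ker : ∀ p : Dt D, ρ p = 1 ↔ p.1 = 1 ∨ p.1 = (e, e, e)
  tt : t * t = 1
  swap : ∀ x y w, t * rr ρ x y w * t⁻¹ = rr ρ x w y
  nmem : t ∉ ρ.range
  syl : IsSylowIn 2 (St ρ t) ⊤

/-- `S₀ = {(1; x, y) t^ε}` -/
def Sk (ρ : Dt D →* G) (t : G) : Subgroup G := closure {g | ∃ x y, g = rr ρ 1 x y} ⊔ zpowers t

/-- `Z = ⟨z₁, z₂⟩` -/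
def Zt (e : D) (ρ : Dt D →* G) : Subgroup G := closure {rr ρ 1 e 1, rr ρ 1 1 e}

/-- the elementary abelian group `A(p, q, r)` of order 16 -/
def At (e : D) (ρ : Dt D →* G) (p q r : D) : Subgroup G :=
  closure {rr ρ 1 e 1, rr ρ 1 1 e, rr ρ p q 1, rr ρ 1 q r}

/-- the torus `T` -/
def Tt (a b : D) (ρ : Dt D →* G) : Subgroup G :=
  closure {g | ∃ x ∈ zpowers (a * b), ∃ y ∈ zpowers (a * b), ∃ w ∈ zpowers (a * b), g = rr ρ x y w}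

/-- `y = (i; i, i)`; it is `1` for `n = 4` -/
noncomputable abbrev yt (n : ℕ) (a b : D) (ρ : Dt D →* G) : G :=
  rr ρ ((a * b) ^ (n / 4)) ((a * b) ^ (n / 4)) ((a * b) ^ (n / 4))

/-- `C₀ = C(Z)` -/
noncomputable abbrev Cq (e : D) (ρ : Dt D →* G) : Subgroup G := Cx (rr ρ 1 e 1) ⊓ Cx (rr ρ 1 1 e)

/-- `s` interchanges the coordinates `0` and `2` -/
structure Sx (n : ℕ) (a b e : D) (ρ : Dt D →* G) (s : G) : Prop where
  z₀ : s * rr ρ 1 e e * s⁻¹ = rr ρ 1 1 e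
  z₂ : s * rr ρ 1 1 e * s⁻¹ = rr ρ 1 e e
  v : s * rr ρ 1 a a * s⁻¹ = rr ρ a a 1
  nA : s ∈ normalizer (At e ρ a a a : Set G)
  y : (yt n a b ρ)⁻¹ * (s * yt n a b ρ * s⁻¹) ∈ Zt e ρ

/-- `H₀` is normal in `H = C(z₀)` with Sylow subgroup `S₀`, and `W = ⟨(c²; 1, 1)⟩` centralises
`H₀` modulo `O(H)`. -/
structure Hz (a b e : D) (ρ : Dt D →* G) (t : G) (H₀ : Subgroup G) : Prop where
  le : H₀ ≤ Cx (rr ρ 1 e e)
  norm : Cx (rr ρ 1 e e) ≤ normalizer (H₀ : Set G)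
  inf : H₀ ⊓ St ρ t = Sk ρ t
  sup : Cx (rr ρ 1 e e) ≤ H₀ ⊔ St ρ t
  cen : ∀ h ∈ H₀, ⁅h, rr ρ ((a * b) ^ 2) 1 1⁆ ∈ Oc (rr ρ 1 e e)

/-- the fusion pattern of `L₄(q)`, `q ≡ 1 (mod 4)`, and `U₄(q)`, `q ≡ 3 (mod 4)`, without `H₀` -/
structure F1 (n : ℕ) (a b e : D) (ρ : Dt D →* G) (t : G) : Prop extends TW n a b e ρ t where
  haa : ∃ h ∈ Cx (rr ρ 1 e e), h * rr ρ 1 a a * h⁻¹ = rr ρ 1 e 1
  hbb : ∃ h ∈ Cx (rr ρ 1 e e), h * rr ρ 1 b b * h⁻¹ = rr ρ 1 e 1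
  ht : ∃ h ∈ Cx (rr ρ 1 e e), h * t * h⁻¹ = rr ρ 1 e 1
  c0 : Cq e ρ ≤ opOf 2 (Cq e ρ) ⊔ ρ.range
  sa : ∃ s, Sx n a b e ρ s
  sb : ∃ s, Sx n b a e ρ s
  ny : ¬ IsConj (rr ρ 1 e e) (yt n a b ρ)
  yy : 8 ∣ n → IsConj (yt n a b ρ) (rr ρ ((a * b) ^ (n / 4)) 1 e * t)

/-- the fusion pattern of `L₄(q)`, `q ≡ 1 (mod 4)`, and `U₄(q)`, `3 < q ≡ 3 (mod 4)` -/
structure F2 (n : ℕ) (a b e : D) (ρ : Dt D →* G) (t : G) : Prop extends F1 n a b e ρ t where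
  h0 : ∃ H₀, Hz a b e ρ t H₀
  ns : n = 4 → ¬ Group.IsSolvable (Cx (rr ρ 1 e e))

/-- the pair `(x, y)` is conjugate to `(z₀, z₁)` -/
def Kp (e : D) (ρ : Dt D →* G) (x y : G) : Prop :=
  ∃ g : G, g * x * g⁻¹ = rr ρ 1 e e ∧ g * y * g⁻¹ = rr ρ 1 e 1

/-- In `PSL₄(q)`, `8 ∣ q - 1`: the involutions with centraliser of type `GL₃(q)`. -/
def Y8 (x : G) : Prop :=
  x ∉ ⁅Cx x, Cx x⁆ ∧ ∀ E ≤ Cx x, (∀ g ∈ E, g * g = 1) → 8 ≤ Nat.card E → x ∈ E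

variable {F : Type*} [Field F] [Fintype F]

/-- `d` induces a diagonal automorphism on both factors, and `K ⟨d⟩` contains the 2-elements that
normalise the factors. -/
structure Dd (n : ℕ) (φ : SL(2, F) × SL(2, F) →* G) (d : G) : Prop where
  pow : ∃ k, n = 2 ^ (k + 2)
  big : 3 < Fintype.card F
  card : ∃ m, Odd m ∧ Fintype.card F ^ 2 = 2 * n * m + 1
  act : ∃ A B : GL (Fin 2) F, ¬ IsSquare A.1.det ∧ ¬ IsSquare B.1.det ∧ Ac1 φ d A ∧ Ac2 φ d B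
  dd : ∀ p, d * d * φ p = φ p * (d * d)
  dz : d ^ (n / 2) = φ (-1, 1)
  two : ∀ x ∈ Cx (φ (-1, 1)), N12 φ x → (∃ k : ℕ, x ^ 2 ^ k = 1) → ∃ j : ℕ, x * d ^ j ∈ φ.range

/-- the structure of `X = C(z₀)/O(C(z₀))` -/
structure Hc {X : Type u} [Group X] (n : ℕ) (φ : SL(2, F) × SL(2, F) →* X) (τ d : X)
    (i : SL(2, F)) : Prop extends Dd n φ d where
  odd : Odd (Fintype.card F)
  ii : i * i = -1
  wl : ∃ X₁, WrL (-1) φ τ X₁ ∧ ∀ x, Odd (orderOf x) → x ∈ X₁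
  norm : ∀ x, N12 φ x ∨ N12 φ (x * τ)

/-- `Hc` for the images of the elements of `S` -/
structure H2 (n : ℕ) (a b e : D) (ρ : Dt D →* G) (t : G)
    (φ : SL(2, F) × SL(2, F) →* Lb (Cx (rr ρ 1 e e))) (τ d : Cx (rr ρ 1 e e)) (i : SL(2, F)) :
    Prop where
  hc : Hc n φ (pr _ τ) (pr _ d) i
  eτ : (τ : G) = rr ρ a a 1
  ed : (d : G) = rr ρ (a * b) a b
  ez : ∀ x : Cx (rr ρ 1 e e), (x : G) = rr ρ 1 e e → pr _ x = φ (-1, 1)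
  ez₂ : ∀ x : Cx (rr ρ 1 e e), (x : G) = rr ρ 1 1 e → pr _ x = φ (i, i)
  s0 : ∀ x : Cx (rr ρ 1 e e), (x : G) ∈ Sk ρ t → pr _ x ∈ φ.range

/-- Phan's configuration with `u = φ (i, i)` -/
structure Ph2 (n : ℕ) (φ : SL(2, F) × SL(2, F) →* G) (τ s d : G) (i w₁ w₂ : SL(2, F)) : Prop
    extends Dd n φ d where
  ph : Ph φ τ (φ (i, i)) s (i : GL (Fin 2) F) w₁ w₂
  ii : i * i = -1
  zτ : ∃ k ∈ Cx (φ (-1, 1)), k * τ * k⁻¹ = φ (-1, 1) * τ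

/-- the involution `x` centralises `L₁` and `L₂ˢ` -/
def Xj (n : ℕ) (φ : SL(2, F) × SL(2, F) →* G) (s d : G) (i : SL(2, F)) (x : G) : Prop :=
  (x = d ^ (n / 4) * φ (1, i) ∨ x = d ^ (n / 4) * φ (1, -i)) ∧
    (s⁻¹ * x * s = d ^ (n / 4) * φ (i, 1) ∨ s⁻¹ * x * s = d ^ (n / 4) * φ (-i, 1))

/-- the data produced for the linear and unitary groups -/
def Out2 (n : ℕ) (z : G) : Prop :=
  ∃ (F : Type) (_ : Field F) (_ : Fintype F) (φ : SL(2, F) × SL(2, F) →* G) (τ s d : G)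
    (i w₁ w₂ : SL(2, F)), Ph2 n φ τ s d i w₁ w₂ ∧ φ (-1, 1) = z ∧ Concl G (i : GL (Fin 2) F)

/-- the exceptional groups -/
def Exc (z : G) : Prop :=
  (Group.IsSolvable (Cx z) ∧ (IsM22 G ∨ ∃ (K : Type) (_ : Field K) (_ : Fintype K),
      Fintype.card K = 9 ∧ Nonempty (G ≃* PSU 4 K 3))) ∨
    (∀ M ≤ Cx z, M.relIndex (Cx z) ≠ 2) ∧ (IsM22 G ∨ IsM23 G ∨ IsMcL G)

theorem mem_Dt {x y w : D} : (x, y, w) ∈ Dt D ↔
    Abelianization.of x * (Abelianization.of y * Abelianization.of w) = 1 := Iff.rfl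

theorem rr_of_mem (ρ : Dt D →* G) {x y w : D} (h : (x, y, w) ∈ Dt D) :
    rr ρ x y w = ρ ⟨(x, y, w), h⟩ := dif_pos h

theorem rr_of_not (ρ : Dt D →* G) {x y w : D} (h : (x, y, w) ∉ Dt D) : rr ρ x y w = 1 := dif_neg h

theorem rr_mem (ρ : Dt D →* G) (x y w : D) : rr ρ x y w ∈ ρ.range := by
  by_cases h : (x, y, w) ∈ Dt D
  · exact ⟨_, (rr_of_mem ρ h).symm⟩
  · rw [rr_of_not ρ h]; exact one_mem _

theorem rr_mul (ρ : Dt D →* G) {x y w x' y' w' : D} (h : (x, y, w) ∈ Dt D)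
    (h' : (x', y', w') ∈ Dt D) :
    rr ρ x y w * rr ρ x' y' w' = rr ρ (x * x') (y * y') (w * w') := by
  rw [rr_of_mem ρ h, rr_of_mem ρ h', ← map_mul,
    rr_of_mem ρ (show (x * x', y * y', w * w') ∈ Dt D from mul_mem h h')]
  rfl

theorem rr_comp {X : Type*} [Group X] (f : G →* X) (ρ : Dt D →* G) (x y w : D) :
    rr (f.comp ρ) x y w = f (rr ρ x y w) := by
  by_cases h : (x, y, w) ∈ Dt D
  · rw [rr_of_mem _ h, rr_of_mem _ h]; rfl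
  · rw [rr_of_not _ h, rr_of_not _ h, map_one]

end CfsgLib.GHC
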