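import Mathlib
import Cfsg.Agent.Lib.GHC.TW
import Cfsg.Agent.Lib.GHC.Mod1

/-! Package MOD2A: calculus in `TW`.  See `plans/GHC.md`, part 3. -/

set_option autoImplicit false
set_option linter.unusedSectionVars false

namespace CfsgLib.GHC

open Subgroup Cfsg CfsgLib.W2 CfsgLib.Tech CfsgLib.PComp CfsgLib.Abel2 CfsgLib.GHA CfsgLib.DihSyl
  CfsgLib.GW.Cor
open scoped MatrixGroups commutatorElement

universe u

variable {G : Type u} [Group G] {D : Type*} [Group D] {n : ℕ} {a b e : D} {ρ : Dt D →* G} {t : G}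

/-- the swap -/
def swp (D : Type*) [Group D] : MulAut (D × D) := MulEquiv.prodComm

/-- the wreath product `D ≀ 2` -/
abbrev Wm (D : Type*) [Group D] : Type _ := (D × D) ⋊[(zpowers (swp D)).subtype] zpowers (swp D)

theorem Dt_mul {x y w p q r : D} (h : (x, y, w) ∈ Dt D) (k : (p, q, r) ∈ Dt D) :
    (x * p, y * q, w * r) ∈ Dt D := mul_mem h k

theorem Dt_inv {x y w : D} (h : (x, y, w) ∈ Dt D) : (x⁻¹, y⁻¹, w⁻¹) ∈ Dt D := inv_mem h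

theorem Dt_swap {x y w : D} (h : (x, y, w) ∈ Dt D) : (x, w, y) ∈ Dt D := by
  rwa [mem_Dt, mul_comm (Abelianization.of w)]

theorem rr_one (ρ : Dt D →* G) : rr ρ 1 1 1 = 1 := (rr_of_mem ρ (one_mem _)).trans (map_one ρ)

theorem rr_inv (ρ : Dt D →* G) (x y w : D) : (rr ρ x y w)⁻¹ = rr ρ x⁻¹ y⁻¹ w⁻¹ := by
  by_cases h : (x, y, w) ∈ Dt D
  · exact inv_eq_of_mul_eq_one_right (by rw [rr_mul ρ h (Dt_inv h)]; simp [rr_one])
  · rw [rr_of_not ρ h, rr_of_not ρ fun k => h (by simpa using Dt_inv k), inv_one]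

theorem rr_pow (ρ : Dt D →* G) {x y w : D} (h : (x, y, w) ∈ Dt D) (k : ℕ) :
    rr ρ x y w ^ k = rr ρ (x ^ k) (y ^ k) (w ^ k) := by
  rw [rr_of_mem ρ h, ← map_pow]
  exact (rr_of_mem ρ (pow_mem h k)).symm

theorem rr_zpow (ρ : Dt D →* G) {x y w : D} (h : (x, y, w) ∈ Dt D) (k : ℤ) :
    rr ρ x y w ^ k = rr ρ (x ^ k) (y ^ k) (w ^ k) := by
  rw [rr_of_mem ρ h, ← map_zpow]
  exact (rr_of_mem ρ (zpow_mem h k)).symm

theorem rr_conj (ρ : Dt D →* G) {x y w : D} (h : (x, y, w) ∈ Dt D) (p q r : D) :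
    rr ρ x y w * rr ρ p q r * (rr ρ x y w)⁻¹ =
      rr ρ (x * p * x⁻¹) (y * q * y⁻¹) (w * r * w⁻¹) := by
  by_cases k : (p, q, r) ∈ Dt D
  · rw [rr_inv, rr_mul ρ h k, rr_mul ρ (Dt_mul h k) (Dt_inv h)]
  · rw [rr_of_not ρ k, mul_one, mul_inv_cancel, rr_of_not ρ fun m =>
      k (by simpa [mul_assoc] using Dt_mul (Dt_mul (Dt_inv h) m) h)]

theorem mem_B {g : G} : g ∈ ρ.range ↔ ∃ x y w, (x, y, w) ∈ Dt D ∧ g = rr ρ x y w :=
  ⟨fun ⟨⟨⟨x, y, w⟩, h⟩, e⟩ => ⟨x, y, w, h, e.symm.trans (rr_of_mem ρ h).symm⟩,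
    fun ⟨x, y, w, _, e⟩ => e ▸ rr_mem ρ x y w⟩

theorem rr_mul_t {x y w p q r : D} (h1 : (x, y, w) ∈ Dt D) (h2 : (p, q, r) ∈ Dt D) :
    rr ρ x y w * (rr ρ p q r * t) = rr ρ (x * p) (y * q) (w * r) * t := by
  rw [← mul_assoc, rr_mul ρ h1 h2]

theorem rr_mem_S (x y w : D) : rr ρ x y w ∈ St ρ t := mem_sup_left (rr_mem ρ x y w)

theorem t_mem_S : t ∈ St ρ t := mem_sup_right (mem_zpowers t)

theorem norm_of_sq {M : Subgroup G} (tt : t * t = 1) (h : ∀ g ∈ M, t * g * t⁻¹ ∈ M) :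
    t ∈ normalizer (M : Set G) :=
  mem_normalizer_iff.2 fun g => ⟨h g, fun m => by
    have := h _ m
    rwa [show t * (t * g * t⁻¹) * t⁻¹ = t * t * g * (t * t)⁻¹ by group, tt, one_mul, inv_one,
      mul_one] at this⟩

namespace TW

variable (h : TW n a b e ρ t)
include h

/-- the lemmas of `Mod1a` on the dihedral group are available as `h.dw.…` -/
theorem dw : DW n a b e (SemidirectProduct.inl : D × D →* Wm D)
    (SemidirectProduct.inr ⟨swp D, mem_zpowers _⟩) := by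
  have ss : swp D * swp D = 1 := MulEquiv.ext fun _ => rfl
  have s1 : swp D ≠ 1 := fun k =>
    h.dih.rpows_ne_one 0 (by simpa [swp] using congrArg (fun f : MulAut (D × D) => (f (1, a)).1) k)
  have top : Sw (SemidirectProduct.inl : D × D →* Wm D)
      (SemidirectProduct.inr ⟨swp D, mem_zpowers _⟩) = ⊤ := top_unique fun ⟨p, _, i, rfl⟩ _ => by
    rw [← SemidirectProduct.inl_left_mul_inr_right (⟨p, _⟩ : Wm D)]
    exact mul_mem (mem_sup_left ⟨_, rfl⟩) (mem_sup_right ⟨i, (map_zpow _ _ i).symm⟩)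
  refine ⟨h.pow, h.dih, h.he, SemidirectProduct.inl_injective, by
    rw [← map_mul, ← map_one SemidirectProduct.inr]; exact congrArg _ (Subtype.ext ss), fun x y => by
    rw [← map_inv, ← SemidirectProduct.inl_aut]; rfl,
    fun ⟨p, k⟩ => s1 (congrArg (·.right.1) k).symm, le_top, ?_, by rw [top, relIndex_self]; decide⟩
  obtain ⟨k, hk⟩ := h.pow
  refine IsPGroup.to_subgroup (IsPGroup.of_card (n := 2 * k + 7) ?_) _
  rw [SemidirectProduct.card, Nat.card_prod, ← card_top (G := D), h.dih.card, Nat.card_zpowers,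
    ord_two ss s1, hk]
  ring

/-- `λ : D → D / D'` -/
noncomputable abbrev lam : D →* K4 := h.dw.lam

theorem ok_iff {x y w : D} : (x, y, w) ∈ Dt D ↔ h.lam x * h.lam y * h.lam w = 1 := by
  rw [mem_Dt, ← map_mul, ← map_mul, ← MonoidHom.mem_ker, Abelianization.ker_of, h.dw.commutator_D,
    ← h.dw.lam_eq_one, map_mul, map_mul, mul_assoc]

theorem ok₀ {y w : D} (k : h.lam y = h.lam w) : (1, y, w) ∈ Dt D :=
  h.ok_iff.2 (by rw [k, map_one, one_mul, K4.sq])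

theorem ok₁ {x w : D} (k : h.lam x = h.lam w) : (x, 1, w) ∈ Dt D :=
  h.ok_iff.2 (by rw [k, map_one, mul_one, K4.sq])

theorem ok₂ {x y : D} (k : h.lam x = h.lam y) : (x, y, 1) ∈ Dt D :=
  h.ok_iff.2 (by rw [k, map_one, mul_one, K4.sq])

theorem ok₃ {x y w : D} (hx : h.lam x = 1) (hy : h.lam y = 1) (hw : h.lam w = 1) :
    (x, y, w) ∈ Dt D := h.ok_iff.2 (by rw [hx, hy, hw]; rfl)

theorem lam_s {s : D} (hs : s = 1 ∨ s = e) : h.lam s = 1 := by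
  rcases hs with rfl | rfl
  exacts [map_one _, h.dw.lam_e]

theorem ok_s {x y w : D} (hx : x = 1 ∨ x = e) (hy : y = 1 ∨ y = e) (hw : w = 1 ∨ w = e) :
    (x, y, w) ∈ Dt D := h.ok₃ (h.lam_s hx) (h.lam_s hy) (h.lam_s hw)

theorem ok_z₀ : (1, e, e) ∈ Dt D := h.ok₀ rfl

theorem ok_z₁ : (1, e, 1) ∈ Dt D := h.ok_s (.inl rfl) (.inr rfl) (.inl rfl)

theorem ok_z₂ : (1, 1, e) ∈ Dt D := h.ok_s (.inl rfl) (.inl rfl) (.inr rfl)

theorem flip : TW n b a e ρ t :=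
  ⟨h.pow, h.dw.flip.dih, h.dw.flip.he, h.ker, h.tt, h.swap, h.nmem, h.syl⟩

theorem eee : rr ρ e e e = 1 :=
  (rr_of_mem ρ (h.ok_s (.inr rfl) (.inr rfl) (.inr rfl))).trans ((h.ker _).2 (.inr rfl))

theorem neg (x y w : D) : rr ρ (x * e) (y * e) (w * e) = rr ρ x y w := by
  by_cases k : (x, y, w) ∈ Dt D
  · rw [← rr_mul ρ k (h.ok_s (.inr rfl) (.inr rfl) (.inr rfl)), h.eee, mul_one]
  · rw [rr_of_not ρ k, rr_of_not ρ (by simpa [h.ok_iff, h.dw.lam_e] using k)]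

theorem shift {s : D} (hs : s = 1 ∨ s = e) (x y w : D) :
    rr ρ (x * s) (y * s) (w * s) = rr ρ x y w := by
  rcases hs with rfl | rfl
  exacts [by simp, h.neg x y w]

theorem s_sq {s : D} (hs : s = 1 ∨ s = e) : s * s = 1 := by
  rcases hs with rfl | rfl
  exacts [mul_one 1, h.dw.ee]

theorem s_comm {s : D} (hs : s = 1 ∨ s = e) (x : D) : x * s = s * x := by
  rcases hs with rfl | rfl
  exacts [by simp, h.dw.e_comm x]

theorem z_eq : rr ρ e 1 1 = rr ρ 1 e e := by rw [← h.neg, h.dw.ee, one_mul]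

theorem eq_iff {x y w p q r : D} (h1 : (x, y, w) ∈ Dt D) (h2 : (p, q, r) ∈ Dt D) :
    rr ρ x y w = rr ρ p q r ↔ x = p ∧ y = q ∧ w = r ∨ x = p * e ∧ y = q * e ∧ w = r * e := by
  rw [eq_comm, ← inv_mul_eq_one, rr_inv, rr_mul ρ (Dt_inv h2) h1,
    rr_of_mem ρ (Dt_mul (Dt_inv h2) h1), h.ker]
  simp [inv_mul_eq_iff_eq_mul]

theorem eq_one_iff {x y w : D} (h1 : (x, y, w) ∈ Dt D) :
    rr ρ x y w = 1 ↔ x = 1 ∧ y = 1 ∧ w = 1 ∨ x = e ∧ y = e ∧ w = e := by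
  rw [← rr_one ρ, h.eq_iff h1 (h.ok₀ rfl), one_mul]

theorem ne_e (x : D) : x ≠ x * e := by simpa using h.dw.e_ne

theorem ne_t (x y w p q r : D) : rr ρ x y w ≠ rr ρ p q r * t := fun k =>
  h.nmem ((mul_mem_cancel_left (rr_mem ρ p q r)).1 (k ▸ rr_mem ρ x y w))

theorem t_inv : t⁻¹ = t := inv_eq_of_mul_eq_one_right h.tt

theorem t_mul (x y w : D) : t * rr ρ x y w = rr ρ x w y * t := by
  rw [← h.swap x y w, inv_mul_cancel_right]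

theorem t_mul_rr {x y w p q r : D} (h1 : (x, y, w) ∈ Dt D) (h2 : (p, q, r) ∈ Dt D) :
    rr ρ x y w * t * rr ρ p q r = rr ρ (x * p) (y * r) (w * q) * t := by
  rw [mul_assoc, h.t_mul, rr_mul_t h1 (Dt_swap h2)]

theorem mul_tt {x y w p q r : D} (h1 : (x, y, w) ∈ Dt D) (h2 : (p, q, r) ∈ Dt D) :
    rr ρ x y w * t * (rr ρ p q r * t) = rr ρ (x * p) (y * r) (w * q) := by
  rw [← mul_assoc, h.t_mul_rr h1 h2, mul_assoc, h.tt, mul_one]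

theorem conj_t {x y w p q r : D} (h1 : (x, y, w) ∈ Dt D) (h2 : (p, q, r) ∈ Dt D) :
    rr ρ x y w * (rr ρ p q r * t) * (rr ρ x y w)⁻¹ =
      rr ρ (x * p * x⁻¹) (y * q * w⁻¹) (w * r * y⁻¹) * t := by
  rw [rr_inv, rr_mul_t h1 h2, h.t_mul_rr (Dt_mul h1 h2) (Dt_inv h1)]

theorem comm_rr {x y w p q r : D} (h1 : (x, y, w) ∈ Dt D) (h2 : (p, q, r) ∈ Dt D) :
    rr ρ x y w ∈ Cx (rr ρ p q r) ↔ x * p = p * x ∧ y * q = q * y ∧ w * r = r * w ∨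
      x * p = p * x * e ∧ y * q = q * y * e ∧ w * r = r * w * e := by
  rw [mem_Cx, rr_mul ρ h1 h2, rr_mul ρ h2 h1, h.eq_iff (Dt_mul h1 h2) (Dt_mul h2 h1)]

theorem comm_t {x y w p q r : D} (h1 : (x, y, w) ∈ Dt D) (h2 : (p, q, r) ∈ Dt D) :
    rr ρ x y w * t ∈ Cx (rr ρ p q r) ↔ x * p = p * x ∧ y * r = q * y ∧ w * q = r * w ∨
      x * p = p * x * e ∧ y * r = q * y * e ∧ w * q = r * w * e := by
  rw [mem_Cx, h.t_mul_rr h1 h2, rr_mul_t h2 h1, mul_left_inj,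
    h.eq_iff (Dt_mul h1 (Dt_swap h2)) (Dt_mul h2 h1)]

theorem cent_t {x y w : D} (h1 : (x, y, w) ∈ Dt D) : rr ρ x y w ∈ Cx t ↔ y = w := by
  rw [mem_Cx, h.t_mul, mul_left_inj, h.eq_iff h1 (Dt_swap h1)]
  simp [h.dw.e_ne, eq_comm]

theorem t_norm_B : t ∈ normalizer (ρ.range : Set G) := norm_of_sq h.tt fun g hg => by
  obtain ⟨x, y, w, -, rfl⟩ := mem_B.1 hg
  exact h.swap x y w ▸ rr_mem ρ _ _ _

theorem mem_S {g : G} :
    g ∈ St ρ t ↔ ∃ x y w, (x, y, w) ∈ Dt D ∧ (g = rr ρ x y w ∨ g = rr ρ x y w * t) := by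
  refine ⟨fun hg => ?_, ?_⟩
  · rcases (TwoGrp.mem_sup_zpowers_iff h.t_norm_B (h.tt ▸ one_mem _)).1 hg with m | ⟨c, m, rfl⟩ <;>
      obtain ⟨x, y, w, k, rfl⟩ := mem_B.1 m
    exacts [⟨x, y, w, k, .inl rfl⟩, ⟨x, y, w, k, .inr rfl⟩]
  · rintro ⟨x, y, w, -, rfl | rfl⟩
    exacts [rr_mem_S _ _ _, mul_mem (rr_mem_S _ _ _) t_mem_S]

theorem relIndex_B : ρ.range.relIndex (St ρ t) = 2 :=
  TwoGrp.relIndex_sup_zpowers h.t_norm_B (h.tt ▸ one_mem _) h.nmem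

theorem lam_surj (c : K4) : ∃ d, h.lam d = c := by
  rcases K4.cases c with rfl | rfl | rfl | rfl
  exacts [⟨1, map_one _⟩, ⟨a, h.dw.lam_a⟩, ⟨b, h.dw.lam_b⟩,
    ⟨a * b, by rw [map_mul, h.dw.lam_a, h.dw.lam_b]⟩]

theorem card_B : Nat.card ρ.range = n ^ 3 := by
  let f : D × D × D →* K4 := h.lam.coprod (h.lam.coprod h.lam)
  have h1 : Dt D = f.ker := by
    ext ⟨x, y, w⟩
    rw [h.ok_iff, mul_assoc]; rfl
  have h2 := card_mul_index f.ker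
  have h3 := card_mul_index ρ.ker
  have h4 : ρ.ker = zpowers ⟨(e, e, e), h.ok_s (.inr rfl) (.inr rfl) (.inr rfl)⟩ :=
    le_antisymm (fun p hp => ((h.ker p).1 hp).elim (fun k => (Subtype.ext k : p = 1) ▸ one_mem _)
      fun k => ⟨1, (zpow_one _).trans (Subtype.ext k.symm)⟩) (zpowers_le.2 ((h.ker _).2 (.inr rfl)))
  rw [index_ker, ← h1, MonoidHom.range_eq_top.2 fun c => (h.lam_surj c).elim fun d k =>
    ⟨(d, 1), by simp [f, k]⟩, card_top, Nat.card_prod, Nat.card_prod, h.dw.card_D, ← h3, index_ker,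
    h4, Nat.card_zpowers, ord_two (Subtype.ext (by simp [h.dw.ee])) fun k =>
      h.dw.e_ne (congrArg (·.1.1) k), Nat.card_eq_fintype_card (α := K4),
    show Fintype.card K4 = 4 from rfl] at h2
  linarith

theorem card_S : Nat.card (St ρ t) = 2 * n ^ 3 := by
  rw [← card_mul_relIndex' (le_sup_left : ρ.range ≤ St ρ t), h.relIndex_B, h.card_B, mul_comm]

theorem norm_B : St ρ t ≤ normalizer (ρ.range : Set G) :=
  sup_le le_normalizer (zpowers_le.2 h.t_norm_B)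

theorem ord_z : orderOf (rr ρ 1 e e) = 2 ∧ orderOf (rr ρ 1 e 1) = 2 ∧ orderOf (rr ρ 1 1 e) = 2 ∧
    rr ρ 1 e 1 * rr ρ 1 1 e = rr ρ 1 e e ∧ rr ρ 1 e e ≠ rr ρ 1 e 1 ∧ rr ρ 1 e e ≠ rr ρ 1 1 e := by
  have k : ∀ {y w}, (1, y, w) ∈ Dt D → y * y = 1 → w * w = 1 → y ≠ 1 ∨ w ≠ 1 →
      orderOf (rr ρ 1 y w) = 2 := fun k hy hw hn =>
    ord_two (by rw [rr_mul ρ k k, hy, hw, mul_one, rr_one]) (by
      rw [Ne, h.eq_one_iff k]; have := h.dw.e_ne.symm; tauto)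
  refine ⟨k h.ok_z₀ h.dw.ee h.dw.ee (.inl h.dw.e_ne), k h.ok_z₁ h.dw.ee (mul_one 1) (.inl h.dw.e_ne),
    k h.ok_z₂ (mul_one 1) h.dw.ee (.inr h.dw.e_ne), by rw [rr_mul ρ h.ok_z₁ h.ok_z₂]; simp, ?_, ?_⟩
  · simp [h.eq_iff h.ok_z₀ h.ok_z₁, h.dw.e_ne, h.dw.e_ne.symm]
  · simp [h.eq_iff h.ok_z₀ h.ok_z₂, h.dw.e_ne, h.dw.e_ne.symm]

theorem mem_Zt {g : G} :
    g ∈ Zt e ρ ↔ g = 1 ∨ g = rr ρ 1 e e ∨ g = rr ρ 1 e 1 ∨ g = rr ρ 1 1 e := by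
  rw [Zt, Invol.mem_closure_pair_of_commute (sq_of_ord h.ord_z.2.1) (sq_of_ord h.ord_z.2.2.1)
    (mem_Cx.1 ((h.comm_rr h.ok_z₁ h.ok_z₂).2 (.inl (by simp)))), h.ord_z.2.2.2.1]
  tauto

theorem mem_Z_of {x y w : D} (hx : x = 1 ∨ x = e) (hy : y = 1 ∨ y = e) (hw : w = 1 ∨ w = e) :
    rr ρ x y w ∈ Zt e ρ := by
  rw [← h.shift hx, h.s_sq hx, h.mem_Zt]
  rcases hx with rfl | rfl <;> rcases hy with rfl | rfl <;> rcases hw with rfl | rfl <;>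
    simp [rr_one, h.dw.ee]

theorem S_le : St ρ t ≤ Cx (rr ρ 1 e e) := fun g hg => by
  obtain ⟨x, y, w, k, rfl | rfl⟩ := h.mem_S.1 hg
  exacts [(h.comm_rr k h.ok_z₀).2 (.inl (by simp [h.dw.e_comm])),
    (h.comm_t k h.ok_z₀).2 (.inl (by simp [h.dw.e_comm]))]

theorem B_le : ρ.range ≤ Cq e ρ := fun g hg => by
  obtain ⟨x, y, w, k, rfl⟩ := mem_B.1 hg
  exact ⟨(h.comm_rr k h.ok_z₁).2 (.inl (by simp [h.dw.e_comm])),
    (h.comm_rr k h.ok_z₂).2 (.inl (by simp [h.dw.e_comm]))⟩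

theorem Cq_le : Cq e ρ ≤ Cx (rr ρ 1 e e) := fun _ hg =>
  h.ord_z.2.2.2.1 ▸ Cx_comm.1 (mul_mem (Cx_comm.1 hg.1) (Cx_comm.1 hg.2))

theorem cent_z₁ : St ρ t ⊓ Cx (rr ρ 1 e 1) = ρ.range := by
  refine le_antisymm (fun g hg => ?_) (le_inf le_sup_left (h.B_le.trans inf_le_left))
  obtain ⟨x, y, w, k, rfl | rfl⟩ := h.mem_S.1 hg.1
  · exact rr_mem ρ _ _ _
  · exact absurd ((h.comm_t k h.ok_z₁).1 hg.2) (by simp [h.dw.e_ne])

theorem center_S {x : G} (hx : x ∈ St ρ t) (hc : St ρ t ≤ Cx x) : x = 1 ∨ x = rr ρ 1 e e := by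
  obtain ⟨x, y, w, k, rfl⟩ := mem_B.1 (h.cent_z₁.le ⟨hx, Cx_comm.1 (hc (rr_mem_S _ _ _))⟩)
  obtain rfl := (h.cent_t k).1 (Cx_comm.1 (hc t_mem_S))
  have k1 : ∀ d, y * d = d * y := fun d => by
    simpa [h.dw.e_ne] using (h.comm_rr k (h.ok₀ rfl)).1 (Cx_comm.1 (hc (rr_mem_S 1 d d)))
  have k2 : ∀ d, x * d = d * x := fun d => by
    simpa [h.dw.e_ne, k1] using (h.comm_rr k (h.ok₂ rfl)).1 (Cx_comm.1 (hc (rr_mem_S d d 1)))
  rcases h.dw.central (k1 a) (k1 b) with rfl | rfl <;>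
    rcases h.dw.central (k2 a) (k2 b) with rfl | rfl
  exacts [.inl (rr_one ρ), .inr h.z_eq, .inr rfl, .inl h.eee]

theorem mem_Sk {g : G} :
    g ∈ Sk ρ t ↔ ∃ x y, (1, x, y) ∈ Dt D ∧ (g = rr ρ 1 x y ∨ g = rr ρ 1 x y * t) := by
  have k : ∀ g, g ∈ closure {g | ∃ x y, g = rr ρ 1 x y} ↔ ∃ x y, (1, x, y) ∈ Dt D ∧ g = rr ρ 1 x y :=
    fun g => ⟨fun hg => by
      induction hg using closure_induction with
      | mem g hg =>
        obtain ⟨x, y, rfl⟩ := hg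
        by_cases k : (1, x, y) ∈ Dt D
        exacts [⟨x, y, k, rfl⟩, ⟨1, 1, one_mem _, by rw [rr_of_not ρ k, rr_one]⟩]
      | one => exact ⟨1, 1, one_mem _, (rr_one ρ).symm⟩
      | mul _ _ _ _ k1 k2 =>
        obtain ⟨x, y, k, rfl⟩ := k1
        obtain ⟨p, q, k', rfl⟩ := k2
        exact ⟨x * p, y * q, by simpa using Dt_mul k k', by rw [rr_mul ρ k k', mul_one]⟩
      | inv _ _ k1 =>
        obtain ⟨x, y, k, rfl⟩ := k1
        exact ⟨x⁻¹, y⁻¹, by simpa using Dt_inv k, by rw [rr_inv, inv_one]⟩,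
    fun ⟨x, y, _, e⟩ => subset_closure ⟨x, y, e⟩⟩
  rw [Sk, TwoGrp.mem_sup_zpowers_iff (norm_of_sq h.tt fun g hg => by
    obtain ⟨x, y, -, rfl⟩ := (k g).1 hg
    exact subset_closure ⟨y, x, h.swap _ _ _⟩) (h.tt ▸ one_mem _)]
  simp only [k]
  constructor
  · rintro (⟨x, y, m, rfl⟩ | ⟨_, ⟨x, y, m, rfl⟩, rfl⟩)
    exacts [⟨x, y, m, .inl rfl⟩, ⟨x, y, m, .inr rfl⟩]
  · rintro ⟨x, y, m, rfl | rfl⟩
    exacts [.inl ⟨x, y, m, rfl⟩, .inr ⟨_, ⟨x, y, m, rfl⟩, rfl⟩]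

omit h in
theorem t_Sk : t ∈ Sk ρ t := mem_sup_right (mem_zpowers t)

omit h in
theorem rr_Sk (x y : D) : rr ρ 1 x y ∈ Sk ρ t := mem_sup_left (subset_closure ⟨x, y, rfl⟩)

theorem rr_mem_Sk {x y w : D} (h1 : (x, y, w) ∈ Dt D) :
    (rr ρ x y w ∈ Sk ρ t ↔ x = 1 ∨ x = e) ∧ (rr ρ x y w * t ∈ Sk ρ t ↔ x = 1 ∨ x = e) := by
  rw [mul_mem_cancel_right t_Sk, and_self]
  refine ⟨fun m => ?_, fun m => by rw [← h.shift m, h.s_sq m]; exact rr_Sk _ _⟩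
  obtain ⟨p, q, k, e1 | e1⟩ := h.mem_Sk.1 m
  · exact ((h.eq_iff h1 k).1 e1).imp (·.1) fun k => k.1.trans (one_mul e)
  · exact absurd e1 (h.ne_t _ _ _ _ _ _)

theorem Sk_le : Sk ρ t ≤ St ρ t := fun g hg => by
  obtain ⟨x, y, k, e1⟩ := h.mem_Sk.1 hg
  exact h.mem_S.2 ⟨1, x, y, k, e1⟩

theorem norm_Sk : St ρ t ≤ normalizer (Sk ρ t : Set G) := by
  have k : ∀ g ∈ ρ.range, ∀ s ∈ Sk ρ t, g * s * g⁻¹ ∈ Sk ρ t := fun g hg s hs => by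
    obtain ⟨x, y, w, k, rfl⟩ := mem_B.1 hg
    obtain ⟨p, q, k', rfl | rfl⟩ := h.mem_Sk.1 hs
    · rw [rr_conj ρ k, mul_one, mul_inv_cancel]; exact rr_Sk _ _
    · rw [h.conj_t k k', mul_one, mul_inv_cancel]; exact mul_mem (rr_Sk _ _) t_Sk
  exact sup_le (fun g hg => mem_normalizer_iff.2 fun s => ⟨k g hg s, fun m => by
    simpa [mul_assoc] using k _ (inv_mem hg) _ m⟩) (zpowers_le.2 (le_normalizer t_Sk))

theorem Sk_le_of {M : Subgroup G} (ha : rr ρ 1 a a ∈ M) (hb : rr ρ 1 b b ∈ M) (ht : t ∈ M)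
    (hc : rr ρ 1 (a * b) (a * b)⁻¹ * t ∈ M) : Sk ρ t ≤ M := by
  have k1 : ∀ d, rr ρ 1 d d ∈ M := h.dw.gen (M := M.comap (MonoidHom.mk' (fun d => rr ρ 1 d d)
    fun x y => by rw [rr_mul ρ (h.ok₀ rfl) (h.ok₀ rfl), mul_one])) ha hb
  have k2 : rr ρ 1 1 ((a * b) ^ 2) ∈ M := by
    have := mul_mem (k1 (a * b)) (inv_mem ((mul_mem_cancel_right ht).1 hc))
    rwa [rr_inv, rr_mul ρ (h.ok₀ rfl) (Dt_inv (h.ok₀ (by rw [map_inv, K4.inv]))), inv_one, mul_one,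
      mul_inv_cancel, inv_inv, ← pow_two] at this
  have k3 : ∀ x y, (1, x, y) ∈ Dt D → rr ρ 1 x y ∈ M := fun x y k => by
    have k4 : h.lam (x⁻¹ * y) = 1 := by simpa [h.ok_iff, K4.inv] using k
    obtain ⟨j, hj⟩ := mem_zpowers_iff.1 (h.dw.lam_eq_one.1 k4)
    have := mul_mem (k1 x) (zpow_mem k2 j)
    rwa [rr_zpow ρ (h.ok₀ (by rw [map_one, map_pow, pow_two, K4.sq])), one_zpow, hj,
      rr_mul ρ (h.ok₀ rfl) (h.ok₀ (by rw [k4, map_one])), mul_one, mul_one,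
      mul_inv_cancel_left] at this
  intro g hg
  obtain ⟨x, y, k, rfl | rfl⟩ := h.mem_Sk.1 hg
  exacts [k3 x y k, mul_mem (k3 x y k) ht]

theorem S_le_of {M : Subgroup G} (ha : rr ρ a a 1 ∈ M) (hb : rr ρ b b 1 ∈ M) (ht : t ∈ M) :
    St ρ t ≤ M := by
  have k1 : ∀ d, rr ρ d d 1 ∈ M := h.dw.gen (M := M.comap (MonoidHom.mk' (fun d => rr ρ d d 1)
    fun x y => by rw [rr_mul ρ (h.ok₂ rfl) (h.ok₂ rfl), mul_one])) ha hb
  have k2 : ∀ d, rr ρ 1 d d⁻¹ ∈ M := fun d => by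
    have := mul_mem (k1 d) (mul_mem (mul_mem ht (k1 d⁻¹)) (inv_mem ht))
    rwa [h.swap, rr_mul ρ (h.ok₂ rfl) (h.ok₁ rfl), mul_inv_cancel, mul_one, one_mul] at this
  have k3 := h.Sk_le_of (by simpa [h.dw.a_inv] using k2 a) (by simpa [h.dw.b_inv] using k2 b) ht (mul_mem (k2 _) ht)
  refine sup_le (fun g hg => ?_) (zpowers_le.2 ht)
  obtain ⟨x, y, w, k, rfl⟩ := mem_B.1 hg
  have := mul_mem (k1 x) (k3 (rr_Sk (x⁻¹ * y) w))
  rwa [rr_mul ρ (h.ok₂ rfl) (by simpa using Dt_mul (Dt_inv (h.ok₂ (rfl : h.lam x = _))) k), mul_one,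
    mul_inv_cancel_left, one_mul] at this

/-- the elements whose first coordinate has `λ ∈ M` -/
theorem exists_lv (M : Subgroup K4) : ∃ L : Subgroup G, L ≤ St ρ t ∧
    L.relIndex (St ρ t) = M.index ∧ ∀ x y w, (x, y, w) ∈ Dt D →
      (rr ρ x y w ∈ L ↔ h.lam x ∈ M) ∧ (rr ρ x y w * t ∈ L ↔ h.lam x ∈ M) := by
  choose X Y W ok eq using fun g : St ρ t => h.mem_S.1 g.2
  have k : ∀ (g : St ρ t) {x y w}, (x, y, w) ∈ Dt D → g.1 = rr ρ x y w ∨ g.1 = rr ρ x y w * t →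
      h.lam (X g) = h.lam x := fun g x y w k e1 => by
    have : rr ρ (X g) (Y g) (W g) = rr ρ x y w := by
      rcases eq g with e2 | e2 <;> rcases e1 with e1 | e1 <;> rw [e2] at e1
      exacts [e1, absurd e1 (h.ne_t _ _ _ _ _ _), absurd e1.symm (h.ne_t _ _ _ _ _ _),
        mul_right_cancel e1]
    rcases (h.eq_iff (ok g) k).1 this with e2 | e2 <;> simp [e2.1, h.dw.lam_e]
  let f : St ρ t →* K4 := MonoidHom.mk' (fun g => h.lam (X g)) fun g g' => by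
    rw [← map_mul]
    rcases eq g with e1 | e1 <;> rcases eq g' with e2 | e2
    · exact k _ (Dt_mul (ok g) (ok g')) (.inl (by rw [coe_mul, e1, e2, rr_mul ρ (ok g) (ok g')]))
    · exact k _ (Dt_mul (ok g) (ok g')) (.inr (by rw [coe_mul, e1, e2, rr_mul_t (ok g) (ok g')]))
    · exact k _ (Dt_mul (ok g) (Dt_swap (ok g'))) (.inr (by
        rw [coe_mul, e1, e2, h.t_mul_rr (ok g) (ok g')]))
    · exact k _ (Dt_mul (ok g) (Dt_swap (ok g'))) (.inl (by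
        rw [coe_mul, e1, e2, h.mul_tt (ok g) (ok g')]))
  refine ⟨(M.comap f).map (St ρ t).subtype, map_subtype_le _, ?_, fun x y w k1 => ⟨?_, ?_⟩⟩
  · rw [relIndex, subgroupOf, comap_map_eq_self_of_injective (subtype_injective _),
      index_comap_of_surjective _ fun c => (h.lam_surj c).elim fun d e1 =>
        ⟨⟨_, rr_mem_S d d 1⟩, (k _ (h.ok₂ rfl) (.inl rfl)).trans e1⟩]
  · rw [← k ⟨_, rr_mem_S x y w⟩ k1 (.inl rfl)]
    exact mem_map_iff_mem (x := ⟨_, rr_mem_S x y w⟩) (subtype_injective _)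
  · rw [← k ⟨_, mul_mem (rr_mem_S x y w) t_mem_S⟩ k1 (.inr rfl)]
    exact mem_map_iff_mem (x := ⟨_, mul_mem (rr_mem_S x y w) t_mem_S⟩) (subtype_injective _)

/-- `W` centralises `S₀` -/
theorem W_comm {x : D} {g : G} (hg : g ∈ Sk ρ t) : rr ρ x 1 1 * g = g * rr ρ x 1 1 := by
  by_cases k : (x, 1, 1) ∈ Dt D
  · obtain ⟨p, q, k', rfl | rfl⟩ := h.mem_Sk.1 hg
    exacts [(mem_Cx.1 ((h.comm_rr k' k).2 (.inl (by simp)))).symm,
      (mem_Cx.1 ((h.comm_t k' k).2 (.inl (by simp)))).symm]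
  · rw [rr_of_not ρ k, one_mul, mul_one]

theorem ok_W {x : D} (hx : h.lam x = 1) : (x, 1, 1) ∈ Dt D := h.ok₃ hx (map_one _) (map_one _)

theorem mem_W {g : G} : g ∈ zpowers (rr ρ ((a * b) ^ 2) 1 1) ↔ ∃ x, h.lam x = 1 ∧ g = rr ρ x 1 1 := by
  have k := fun j : ℤ => rr_zpow ρ (h.ok_W (h.dw.lam_eq_one.2 (mem_zpowers _))) j
  simp only [one_zpow] at k
  refine ⟨fun ⟨j, e1⟩ => ⟨_, h.dw.lam_eq_one.2 ⟨j, rfl⟩, e1.symm.trans (k j)⟩, ?_⟩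
  rintro ⟨x, hx, rfl⟩
  obtain ⟨j, rfl⟩ := h.dw.lam_eq_one.1 hx
  exact ⟨j, k j⟩

theorem W_inf : zpowers (rr ρ ((a * b) ^ 2) 1 1) ⊓ Sk ρ t = zpowers (rr ρ 1 e e) := by
  refine le_antisymm (fun g hg => ?_)
    (zpowers_le.2 ⟨h.mem_W.2 ⟨e, h.dw.lam_e, h.z_eq.symm⟩, rr_Sk _ _⟩)
  obtain ⟨x, hx, rfl⟩ := h.mem_W.1 hg.1
  rcases (h.rr_mem_Sk (h.ok_W hx)).1.1 hg.2 with rfl | rfl
  exacts [rr_one ρ ▸ one_mem _, h.z_eq ▸ mem_zpowers _]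

theorem mem_WS {x y w : D} (h1 : (x, y, w) ∈ Dt D) :
    (rr ρ x y w ∈ zpowers (rr ρ ((a * b) ^ 2) 1 1) ⊔ Sk ρ t ↔ h.lam x = 1) ∧
      (rr ρ x y w * t ∈ zpowers (rr ρ ((a * b) ^ 2) 1 1) ⊔ Sk ρ t ↔ h.lam x = 1) := by
  rw [mul_mem_cancel_right (mem_sup_right t_Sk), and_self]
  refine ⟨fun m => ?_, fun m => ?_⟩
  · obtain ⟨L, -, -, hL⟩ := h.exists_lv ⊥
    have k := h.dw.lam_eq_one.2 (mem_zpowers _)
    refine (hL _ _ _ h1).1.1 (sup_le (zpowers_le.2 ((hL _ _ _ (h.ok_W k)).1.2 k)) (fun g hg => ?_) m)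
    obtain ⟨p, q, k', rfl | rfl⟩ := h.mem_Sk.1 hg
    exacts [(hL _ _ _ k').1.2 (map_one _), (hL _ _ _ k').2.2 (map_one _)]
  · have := mul_mem_sup (h.mem_W.2 ⟨x, m, rfl⟩) (rr_Sk (ρ := ρ) (t := t) y w)
    rwa [rr_mul ρ (h.ok_W m) (by simpa [h.ok_iff, m] using h1), mul_one, one_mul, one_mul] at this

theorem ii : (a * b) ^ (n / 4) * (a * b) ^ (n / 4) = e := by
  obtain ⟨i, -, rfl, k, -⟩ := h.dw.exists_i; exact k

theorem i_conj {x : D} (hx : Rf a b x) : (a * b) ^ (n / 4) * x * ((a * b) ^ (n / 4))⁻¹ = x * e := by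
  obtain ⟨i, -, rfl, -, k, -⟩ := h.dw.exists_i; exact k x hx

theorem i_inv : ((a * b) ^ (n / 4))⁻¹ = (a * b) ^ (n / 4) * e :=
  inv_eq_of_mul_eq_one_right (by rw [← mul_assoc, h.ii, h.dw.ee])

theorem eq_i {x : D} (hx : x * x = e) : ∃ s, (s = 1 ∨ s = e) ∧ x = (a * b) ^ (n / 4) * s := by
  obtain ⟨i, -, rfl, -, -, k⟩ := h.dw.exists_i
  exact (k x hx).elim (fun k => ⟨1, .inl rfl, k.trans (mul_one _).symm⟩)
    fun k => ⟨e, .inr rfl, k.trans h.i_inv⟩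

theorem lam_i : h.lam ((a * b) ^ (n / 4)) = 1 ↔ 8 ∣ n := by
  refine ⟨fun k => h.dw.eq_four_or.resolve_left ?_, fun ⟨m, k⟩ => h.dw.lam_eq_one.2 ?_⟩
  · rintro rfl
    rw [Nat.div_self (by omega), pow_one, map_mul, h.dw.lam_a, h.dw.lam_b] at k
    exact absurd k (by decide)
  · rw [show n / 4 = 2 * m by omega, pow_mul]; exact pow_mem (mem_zpowers _) _

theorem ok_y (h8 : 8 ∣ n) : ((a * b) ^ (n / 4), (a * b) ^ (n / 4), (a * b) ^ (n / 4)) ∈ Dt D :=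
  h.ok₃ (h.lam_i.2 h8) (h.lam_i.2 h8) (h.lam_i.2 h8)

theorem rf_conj_rot {p x : D} (hp : Rf a b p) (hx : x ∈ zpowers (a * b)) : p * x * p⁻¹ = x⁻¹ := by
  obtain ⟨i, rfl⟩ := h.dw.rf_iff.1 hp
  obtain ⟨j, rfl⟩ := hx
  exact (h.dih.rpows_conj_rpow i j).trans (zpow_neg _ _)

omit h in
theorem rot_comm {x y : D} (hx : x ∈ zpowers (a * b)) (hy : y ∈ zpowers (a * b)) :
    x * y = y * x := by
  obtain ⟨i, rfl⟩ := hx
  obtain ⟨j, rfl⟩ := hy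
  exact (zpow_mul_comm _ _ _)

omit h in
theorem i_rot : (a * b) ^ (n / 4) ∈ zpowers (a * b) := pow_mem (mem_zpowers _) _

theorem conj_i {p : D} (hp : Rf a b p) : p * (a * b) ^ (n / 4) * p⁻¹ = (a * b) ^ (n / 4) * e :=
  (h.rf_conj_rot hp i_rot).trans h.i_inv

theorem rf_of_lam {x y : D} (hx : Rf a b x) (k : h.lam y = h.lam x) : Rf a b y :=
  h.dw.rf_lam.2 (k ▸ h.dw.rf_lam.1 hx)

theorem root {f : G} (hf : f ∈ Sk ρ t) (h2 : f * f = 1 ∨ f * f = rr ρ 1 e e) :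
    (f = 1 ∨ f = rr ρ 1 e e) ∨ ∃ k ∈ Sk ρ t, k * f * k⁻¹ = f * rr ρ 1 e e := by
  obtain ⟨x, y, k, rfl | rfl⟩ := h.mem_Sk.1 hf
  swap
  · exact .inr ⟨_, rr_Sk e 1, by
      rw [h.conj_t h.ok_z₁ k, h.t_mul_rr k h.ok_z₀]; simp [h.dw.e_comm, h.dw.e_inv]⟩
  have k1 : h.lam y = h.lam x := by
    rw [h.ok_iff, map_one, one_mul, mul_eq_one_iff_eq_inv, K4.inv] at k; exact k.symm
  rw [rr_mul ρ k h.ok_z₀, mul_one]
  rw [rr_mul ρ k k, h.eq_one_iff (Dt_mul k k), h.eq_iff (Dt_mul k k) h.ok_z₀] at h2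
  simp only [mul_one, one_mul, h.dw.e_ne.symm, false_and, or_false, true_and] at h2
  rcases h2 with ⟨hx, hy⟩ | ⟨hx, hy⟩
  · by_cases hr : Rf a b x
    · exact .inr ⟨_, rr_Sk _ _, by
        rw [rr_conj ρ (h.ok₀ rfl), h.i_conj hr, h.i_conj (h.rf_of_lam hr k1)]; simp⟩
    rcases h.dw.invol hx with rfl | rfl | hx <;> rcases h.dw.invol hy with rfl | rfl | hy <;>
      first | exact absurd ‹_› hr | exact absurd (h.rf_of_lam hy k1.symm) hr | skip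
    exacts [.inl (.inl (rr_one ρ)), .inr ⟨t, t_Sk, by rw [h.swap, h.dw.ee, one_mul]⟩,
      .inr ⟨t, t_Sk, by rw [h.swap, h.dw.ee, one_mul]⟩, .inl (.inr rfl)]
  · have k2 : ∀ x, x * x = e → a * x * a⁻¹ = x * e := fun x hx =>
      (h.rf_conj_rot h.dw.rf_a (h.dih.mem_zpowers_of_sq_ne_one (mem_top x) (hx ▸ h.dw.e_ne))).trans
        (inv_eq_of_mul_eq_one_right (by rw [← mul_assoc, hx, h.dw.ee]))
    exact .inr ⟨_, rr_Sk a a, by rw [rr_conj ρ (h.ok₀ rfl), k2 x hx, k2 y hy]; simp⟩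

theorem conj_p {x y s : D} (hs : s = 1 ∨ s = e) (hx : h.lam x = kα ∨ h.lam x = kβ)
    (hy : h.lam y = h.lam x) : ∃ p, (p = a ∨ p = b) ∧ ∃ c d, c * (x * s) * c⁻¹ = p ∧
      d * (y * s) * d⁻¹ = p := by
  have k : ∀ x, h.lam (x * s) = h.lam x := fun x => by rw [map_mul, h.lam_s hs, mul_one]
  rcases hx with hx | hx
  · obtain ⟨c, hc⟩ := h.dw.conj_a' ((k x).trans hx)
    obtain ⟨d, hd⟩ := h.dw.conj_a' ((k y).trans (hy.trans hx))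
    exact ⟨a, .inl rfl, c, d, hc, hd⟩
  · obtain ⟨c, hc⟩ := h.dw.conj_b' ((k x).trans hx)
    obtain ⟨d, hd⟩ := h.dw.conj_b' ((k y).trans (hy.trans hx))
    exact ⟨b, .inr rfl, c, d, hc, hd⟩

theorem invol_B {g : G} (hg : g ∈ ρ.range) (h2 : g * g = 1) :
    g ∈ Zt e ρ ∨ (8 ∣ n ∧ (yt n a b ρ)⁻¹ * g ∈ Zt e ρ) ∨ ∃ k ∈ ρ.range, ∃ p, (p = a ∨ p = b) ∧
      (k * g * k⁻¹ = rr ρ 1 p p ∨ k * g * k⁻¹ = rr ρ p p 1 ∨ k * g * k⁻¹ = rr ρ p 1 p) := by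
  obtain ⟨x, y, w, k, rfl⟩ := mem_B.1 hg
  rw [rr_mul ρ k k, h.eq_one_iff (Dt_mul k k)] at h2
  have k1 := h.ok_iff.1 k
  rcases h2 with ⟨hx, hy, hw⟩ | ⟨hx, hy, hw⟩
  · have k0 : ∀ c d : D, (c * d, c, d) ∈ Dt D ∧ (c, d, c * d) ∈ Dt D ∧ (c, c * d, d) ∈ Dt D :=
      fun c d => by
        simp only [h.ok_iff, map_mul]
        generalize h.lam c = c, h.lam d = d
        revert c d; decide
    rcases h.dw.lam_invol hx with ⟨hx, ex⟩ | ex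
    · rcases h.dw.lam_invol hy with ⟨hy, ey⟩ | ey
      · rcases h.dw.lam_invol hw with ⟨hw, -⟩ | ew | ew
        · exact .inl (h.mem_Z_of hx hy hw)
        all_goals rw [ex, ey, ew] at k1; exact absurd k1 (by decide)
      · rw [ex, one_mul, mul_eq_one_iff_eq_inv, K4.inv] at k1
        obtain ⟨p, hp, c, d, hc, hd⟩ := h.conj_p hx ey k1.symm
        exact .inr (.inr ⟨_, rr_mem ρ (c * d) c d, p, hp, .inl (by
          rw [← h.shift hx x, rr_conj ρ (k0 c d).1, hc, hd, h.s_sq hx]; simp)⟩)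
    · rcases h.dw.lam_invol hw with ⟨hw, ew⟩ | ew
      · rw [ew, mul_one, mul_eq_one_iff_eq_inv, K4.inv] at k1
        obtain ⟨p, hp, c, d, hc, hd⟩ := h.conj_p hw ex k1.symm
        exact .inr (.inr ⟨_, rr_mem ρ c d (c * d), p, hp, .inr (.inl (by
          rw [← h.shift hw x, rr_conj ρ (k0 c d).2.1, hc, hd, h.s_sq hw]; simp))⟩)
      · rcases h.dw.lam_invol hy with ⟨hy, ey⟩ | ey
        · rw [ey, mul_one, mul_eq_one_iff_eq_inv, K4.inv] at k1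
          obtain ⟨p, hp, c, d, hc, hd⟩ := h.conj_p hy ex k1.symm
          exact .inr (.inr ⟨_, rr_mem ρ c (c * d) d, p, hp, .inr (.inr (by
            rw [← h.shift hy x, rr_conj ρ (k0 c d).2.2, hc, hd, h.s_sq hy]; simp))⟩)
        · rcases ex with ex | ex <;> rcases ey with ey | ey <;> rcases ew with ew | ew <;>
            rw [ex, ey, ew] at k1 <;> exact absurd k1 (by decide)
  · obtain ⟨p, hp, rfl⟩ := h.eq_i hx
    obtain ⟨q, hq, rfl⟩ := h.eq_i hy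
    obtain ⟨r, hr, rfl⟩ := h.eq_i hw
    simp only [map_mul h.lam ((a * b) ^ (n / 4)), h.lam_s hp, h.lam_s hq, h.lam_s hr, mul_one, K4.sq,
      one_mul, h.lam_i] at k1
    refine .inr (.inl ⟨k1, ?_⟩)
    rw [← rr_mul ρ (h.ok_y k1) (h.ok_s hp hq hr), inv_mul_cancel_left]
    exact h.mem_Z_of hp hq hr

theorem invol_out {g : G} (hg : g ∈ St ρ t) (hB : g ∉ ρ.range) (h2 : g * g = 1) :
    ∃ k ∈ ρ.range, k * g * k⁻¹ = t ∨ 8 ∣ n ∧ k * g * k⁻¹ = rr ρ ((a * b) ^ (n / 4)) 1 e * t := by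
  obtain ⟨x, y, w, k, rfl | rfl⟩ := h.mem_S.1 hg
  · exact absurd (rr_mem ρ _ _ _) hB
  rw [h.mul_tt k k, h.eq_one_iff (Dt_mul k (Dt_swap k))] at h2
  have k1 := h.ok_iff.1 k
  rw [mul_assoc, ← map_mul] at k1
  rcases h2 with ⟨hx, hy, hw⟩ | ⟨hx, hy, hw⟩
  · rw [hy, map_one, mul_one] at k1
    have hs := (h.dw.invol_rot (zpowers_le.2 (pow_mem (mem_zpowers _) 2) (h.dw.lam_eq_one.1 k1)) hx)
    refine ⟨_, rr_mem ρ y⁻¹ (x * y⁻¹) 1, .inl ?_⟩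
    rw [h.conj_t (h.ok₂ (by rw [map_mul, k1, one_mul])) k, h.s_comm hs y⁻¹, mul_inv_cancel_right,
      inv_mul_cancel_right, mul_inv_rev, inv_inv, ← mul_assoc, one_mul, hw, inv_one, mul_one,
      inv_eq_of_mul_eq_one_right hx, one_mul, (h.eq_one_iff (h.ok_s hs hs hs)).2 (by tauto), one_mul]
  · rw [hy, h.dw.lam_e, mul_one] at k1
    obtain ⟨p, hp, rfl⟩ := h.eq_i hx
    rw [map_mul, h.lam_s hp, mul_one, h.lam_i] at k1
    obtain ⟨s, hs, e1⟩ : ∃ s, (s = 1 ∨ s = e) ∧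
        y⁻¹ * ((a * b) ^ (n / 4) * p) * y⁻¹⁻¹ = (a * b) ^ (n / 4) * s :=
      h.eq_i (by rw [conj_mul, hx, h.dw.e_comm, mul_inv_cancel_right])
    refine ⟨_, rr_mem ρ y⁻¹ (s * y⁻¹) 1, .inr ⟨k1, ?_⟩⟩
    rw [h.conj_t (h.ok₂ (by rw [map_mul, h.lam_s hs, one_mul])) k, e1, ← h.shift hs _ 1 e, ← hw]
    simp [mul_assoc, inv_eq_of_mul_eq_one_right (h.s_sq hs)]

theorem conj_y {x : G} (hx : x ∈ Zt e ρ) :
    8 ∣ n → ∃ k ∈ ρ.range, k * yt n a b ρ * k⁻¹ = yt n a b ρ * x := fun h8 => by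
  have k := h.conj_i h.dw.rf_a
  rcases h.mem_Zt.1 hx with rfl | rfl | rfl | rfl
  · exact ⟨1, one_mem _, by simp⟩
  · exact ⟨_, rr_mem ρ 1 a a, by rw [rr_conj ρ (h.ok₀ rfl), rr_mul ρ (h.ok_y h8) h.ok_z₀, k]; simp⟩
  · exact ⟨_, rr_mem ρ a 1 a, by
      rw [rr_conj ρ (h.ok₁ rfl), rr_mul ρ (h.ok_y h8) h.ok_z₁, k, ← h.neg]; simp [mul_assoc, h.dw.ee]⟩
  · exact ⟨_, rr_mem ρ a a 1, by
      rw [rr_conj ρ (h.ok₂ rfl), rr_mul ρ (h.ok_y h8) h.ok_z₂, k, ← h.neg]; simp [mul_assoc, h.dw.ee]⟩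

theorem invol_S {g : G} (hg : g ∈ St ρ t) (h2 : orderOf g = 2) : ∃ k ∈ St ρ t,
    k * g * k⁻¹ ∈ ({rr ρ 1 e e, rr ρ 1 e 1, rr ρ 1 a a, rr ρ 1 b b, t, rr ρ a a 1, rr ρ b b 1} :
      Set G) ∨ 8 ∣ n ∧ (k * g * k⁻¹ = yt n a b ρ ∨
        k * g * k⁻¹ = rr ρ ((a * b) ^ (n / 4)) 1 e * t) := by
  by_cases hB : g ∈ ρ.range
  · rcases h.invol_B hB (sq_of_ord h2) with m | ⟨h8, m⟩ | ⟨k, hk, p, hp, e1 | e1 | e1⟩
    · rcases h.mem_Zt.1 m with rfl | rfl | rfl | rfl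
      exacts [absurd rfl (ne_one_of_ord h2), ⟨1, one_mem _, .inl (by simp)⟩,
        ⟨1, one_mem _, .inl (by simp)⟩, ⟨t, t_mem_S, .inl (by simp [h.swap])⟩]
    · obtain ⟨k, hk, e1⟩ := h.conj_y m h8
      exact ⟨k⁻¹, inv_mem (mem_sup_left hk), .inr ⟨h8, .inl (by
        rw [← mul_inv_cancel_left (yt n a b ρ) g, ← e1]; group)⟩⟩
    · exact ⟨k, mem_sup_left hk, .inl (by rcases hp with rfl | rfl <;> simp [e1])⟩
    · exact ⟨k, mem_sup_left hk, .inl (by rcases hp with rfl | rfl <;> simp [e1])⟩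
    · exact ⟨t * k, mul_mem t_mem_S (mem_sup_left hk), .inl (by
        rw [show t * k * g * (t * k)⁻¹ = t * (k * g * k⁻¹) * t⁻¹ by group, e1, h.swap]
        rcases hp with rfl | rfl <;> simp)⟩
  · obtain ⟨k, hk, e1 | e1⟩ := h.invol_out hg hB (sq_of_ord h2)
    exacts [⟨k, mem_sup_left hk, .inl (by simp [e1])⟩, ⟨k, mem_sup_left hk, .inr ⟨e1.1, .inr e1.2⟩⟩]

theorem map {X : Type*} [Group X] (f : G →* X) (hf : ∀ g ∈ St ρ t, f g = 1 → g = 1)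
    (hs : IsSylowIn 2 ((St ρ t).map f) ⊤) : TW n a b e (f.comp ρ) (f t) where
  pow := h.pow
  dih := h.dih
  he := h.he
  ker p := Iff.trans ⟨hf _ (mem_sup_left ⟨p, rfl⟩), fun k => (congrArg f k).trans (map_one f)⟩ (h.ker p)
  tt := by rw [← map_mul, h.tt, map_one]
  swap x y w := by rw [rr_comp, rr_comp, ← h.swap x y w]; simp
  nmem := fun ⟨q, hq⟩ => h.nmem ⟨q, (inv_mul_eq_one.1 (hf _ (mul_mem (mem_sup_left ⟨q⁻¹, map_inv ρ q⟩)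
    t_mem_S) (by rw [map_mul, ← hq, map_inv, MonoidHom.comp_apply, inv_mul_cancel])))⟩
  syl := by rwa [Subgroup.map_sup, ← MonoidHom.range_comp, MonoidHom.map_zpowers] at hs

theorem sub [Finite G] {N : Subgroup G} (hN : St ρ t ≤ N) : ∃ (ρ' : Dt D →* N) (t' : N),
    TW n a b e ρ' t' ∧ (∀ x y w, ((rr ρ' x y w : N) : G) = rr ρ x y w) ∧ (t' : G) = t := by
  let ρ' := ρ.codRestrict N fun p => hN (mem_sup_left ⟨p, rfl⟩)
  have k : ∀ x y w, ((rr ρ' x y w : N) : G) = rr ρ x y w := fun x y w =>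
    (rr_comp N.subtype ρ' x y w).symm
  refine ⟨ρ', ⟨t, hN t_mem_S⟩, ⟨h.pow, h.dih, h.he, fun p => Subtype.ext_iff.trans (h.ker p),
    Subtype.ext h.tt, fun x y w => Subtype.ext (by simpa [k] using h.swap x y w),
    fun ⟨q, hq⟩ => h.nmem ⟨q, congrArg Subtype.val hq⟩, ?_⟩, k, rfl⟩
  have e1 : St ρ' ⟨t, hN t_mem_S⟩ = (St ρ t).subgroupOf N := by
    refine map_injective N.subtype_injective ?_
    rw [subgroupOf_map_subtype, inf_of_le_left hN, Subgroup.map_sup, ← MonoidHom.range_comp,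
      MonoidHom.map_zpowers]
    rfl
  rw [e1]
  exact ⟨le_top, h.syl.pgroup.comap_subtype, by
    rw [relIndex_top_right]; exact (h.syl.of_le hN le_top).not_dvd⟩

/-- the coordinates with `t` replaced by `y' = (i; 1, e) t` -/
theorem twist (h8 : 8 ∣ n) : ∃ ρ' : Dt D →* G,
    TW n a b e ρ' (rr ρ ((a * b) ^ (n / 4)) 1 e * t) ∧ ρ'.range = ρ.range ∧
      ∀ x, ∀ y ∈ zpowers (a * b), ∀ w, rr ρ' x y w = rr ρ x y w := by
  let φ : K4 →* D := MonoidHom.mk' (fun c => if c = kα ∨ c = kβ then e else 1) fun c d => by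
    rcases K4.cases c with rfl | rfl | rfl | rfl <;> rcases K4.cases d with rfl | rfl | rfl | rfl <;>
      simp +decide [h.dw.ee]
  have s1 : ∀ y, Rf a b y → φ (h.lam y) = e := fun y hy => if_pos (h.dw.rf_lam.1 hy)
  have s2 : ∀ y, ¬ Rf a b y → φ (h.lam y) = 1 := fun y hy => if_neg (mt h.dw.rf_lam.2 hy)
  have s3 : ∀ y, φ (h.lam y) = 1 ∨ φ (h.lam y) = e := fun y => (em _).symm.imp (s2 y) (s1 y)
  have ok : ∀ {x y w}, (x * φ (h.lam y), y, w) ∈ Dt D ↔ (x, y, w) ∈ Dt D := by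
    simp [h.ok_iff, h.lam_s (s3 _)]
  let κ : Dt D →* Dt D := MonoidHom.mk' (fun p => ⟨(p.1.1 * φ (h.lam p.1.2.1), p.1.2), ok.2 p.2⟩)
    fun p q => Subtype.ext (Prod.ext (by
      simp only [coe_mul, Prod.fst_mul, Prod.snd_mul, map_mul, mul_assoc]
      rw [← mul_assoc q.1.1, h.s_comm (s3 _) q.1.1, mul_assoc]) rfl)
  have k : ∀ x y w, rr (ρ.comp κ) x y w = rr ρ (x * φ (h.lam y)) y w := fun x y w => by
    by_cases m : (x, y, w) ∈ Dt D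
    exacts [(rr_of_mem _ m).trans (rr_of_mem ρ (ok.2 m)).symm,
      (rr_of_not _ m).trans (rr_of_not ρ (mt ok.1 m)).symm]
  have rg : (ρ.comp κ).range = ρ.range := le_antisymm (fun _ ⟨p, e1⟩ => ⟨κ p, e1⟩) fun g hg => by
    obtain ⟨x, y, w, m, rfl⟩ := mem_B.1 hg
    have := rr_mem (ρ.comp κ) (x * φ (h.lam y)) y w
    rwa [k, mul_assoc, h.s_sq (s3 y), mul_one] at this
  have oi := h.ok₃ (h.lam_i.2 h8) (map_one _) h.dw.lam_e
  refine ⟨ρ.comp κ, ⟨h.pow, h.dih, h.he, fun ⟨⟨x, y, w⟩, m⟩ => ?_, by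
    rw [h.mul_tt oi oi, h.ii, one_mul, mul_one, h.eee], fun x y w => ?_, fun m => h.nmem
      ((mul_mem_cancel_left (rr_mem ρ _ _ _)).1 (rg ▸ m)), ?_⟩, rg, fun x y hy w => by
      rw [k, s2 y (not_not.2 hy), mul_one]⟩
  · rw [← rr_of_mem _ m, k, h.eq_one_iff (ok.2 m)]
    simp only [Prod.ext_iff, ← and_comm (b := _ * _ = _), ← and_comm (b := x = _)]
    refine or_congr (and_congr_right ?_) (and_congr_right ?_) <;> rintro ⟨rfl, -⟩ <;>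
      simp [h.dw.lam_e]
  · by_cases m : (x, y, w) ∈ Dt D
    · have e1 : (a * b) ^ (n / 4) * x * ((a * b) ^ (n / 4))⁻¹ = x * φ (h.lam x) := by
        by_cases hx : Rf a b x
        · rw [s1 x hx, h.i_conj hx]
        · rw [s2 x hx, rot_comm i_rot (not_not.1 hx), mul_inv_cancel_right, mul_one]
      rw [k, k, mul_inv_rev, ← mul_assoc, mul_assoc _ t, mul_assoc _ _ t⁻¹, h.swap, rr_conj ρ oi,
        ← mul_assoc, mul_assoc _ (φ _), ← h.s_comm (s3 y), ← mul_assoc, e1, mul_assoc, ← map_mul,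
        mul_eq_one_iff_eq_inv.1 (h.ok_iff.1 m), K4.inv, ← h.dw.e_comm y]
      simp
    · rw [rr_of_not _ m, rr_of_not _ fun k => m (Dt_swap k), mul_one, mul_inv_cancel]
  · have : St (ρ.comp κ) (rr ρ ((a * b) ^ (n / 4)) 1 e * t) = St ρ t := by
      rw [St, rg]
      exact le_antisymm (sup_le le_sup_left (zpowers_le.2 (mul_mem (rr_mem_S _ _ _) t_mem_S)))
        (sup_le le_sup_left (zpowers_le.2 ((mul_mem_cancel_left (mem_sup_left (rr_mem ρ _ _ _))).1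
          (mem_sup_right (mem_zpowers _)))))
    exact this ▸ h.syl

end TW

theorem yt_flip (h : TW n a b e ρ t) : yt n b a ρ = yt n a b ρ := by
  rw [yt, h.dw.ba, inv_pow, h.i_inv, h.neg]

theorem Hz.flip (h : TW n a b e ρ t) {H₀ : Subgroup G} (k : Hz a b e ρ t H₀) :
    Hz b a e ρ t H₀ := by
  refine ⟨k.le, k.norm, k.inf, k.sup, fun g hg => ?_⟩
  have := conj_mem_of_mem_normalizer (le_normalizer_opOf _ (inv_mem (h.S_le
    (rr_mem_S ((a * b) ^ 2) 1 1)))) (inv_mem (k.cen g hg))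
  rw [h.dw.ba, inv_pow, ← inv_one, ← rr_inv, inv_one]
  convert this using 1
  simp only [commutatorElement_def]; group

theorem F1.flip (h : F1 n a b e ρ t) : F1 n b a e ρ t := by
  refine ⟨h.toTW.flip, h.hbb, h.haa, h.ht, h.c0, h.sb, h.sa, yt_flip h.toTW ▸ h.ny, fun h8 => ?_⟩
  rw [yt_flip h.toTW]
  refine (h.yy h8).trans (isConj_iff.2 ⟨rr ρ 1 e 1, ?_⟩)
  rw [h.conj_t h.ok_z₁ (h.ok₃ (h.lam_i.2 h8) (map_one _) h.dw.lam_e), h.dw.ba, inv_pow, h.i_inv,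
    ← h.neg]
  simp [h.dw.ee]

theorem F2.flip (h : F2 n a b e ρ t) : F2 n b a e ρ t :=
  ⟨h.toF1.flip, h.h0.imp fun _ => Hz.flip h.toTW, h.ns⟩

end CfsgLib.GHC
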