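import Mathlib
import Cfsg.Agent.Lib.GHC.Mod2a

/-! Package MOD2B: the subgroups `T`, `A(p, q, r)`, `C_S(y)`.  See `plans/GHC.md`, part 3. -/

set_option autoImplicit false
set_option linter.unusedSectionVars false

namespace CfsgLib.GHC

open Subgroup Cfsg CfsgLib.W2 CfsgLib.Tech CfsgLib.PComp CfsgLib.Abel2 CfsgLib.GHA CfsgLib.DihSyl
  CfsgLib.GW.Cor
open scoped MatrixGroups commutatorElement

universe u

variable {G : Type u} [Group G] [Finite G] {D : Type*} [Group D] {n : ℕ} {a b e : D}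
  {ρ : Dt D →* G} {t : G}

theorem card_le_of_cover {α : Type*} [Finite α] {U : Subgroup G} (f : α → G)
    (h : ∀ u ∈ U, u ∈ Set.range f) : Nat.card U ≤ Nat.card α :=
  (Nat.card_mono (Set.toFinite _) h).trans (Finite.card_range_le f)

theorem card_le_inf {T U S : Subgroup G} (h : U ≤ S) :
    Nat.card U ≤ Nat.card ↥(T ⊓ U) * T.relIndex S := by
  rw [← card_mul_relIndex' (inf_le_right : T ⊓ U ≤ U), inf_relIndex_right]
  exact Nat.mul_le_mul_left _ (relIndex_le_of_le_right h index_ne_zero_of_finite)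

theorem norm_of_le_Cx {C : Subgroup G} {y : G} (h : C ≤ Cx y) : y ∈ normalizer (C : Set G) :=
  mem_normalizer_fintype fun g hg => by rwa [← mem_Cx.1 (h hg), mul_inv_cancel_right]

theorem rr_comm₂ (ρ : Dt D →* G) {x y w p q r : D} (h1 : (x, y, w) ∈ Dt D) (h2 : (p, q, r) ∈ Dt D) :
    ⁅rr ρ x y w, rr ρ p q r⁆ = rr ρ ⁅x, p⁆ ⁅y, q⁆ ⁅w, r⁆ := by
  rw [commutatorElement_def, rr_conj ρ h1, rr_inv,
    rr_mul ρ (Dt_mul (Dt_mul h1 h2) (Dt_inv h1)) (Dt_inv h2)]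
  rfl

namespace TW

variable (h : TW n a b e ρ t)
include h

theorem mem_Tt {g : G} : g ∈ Tt a b ρ ↔ ∃ x ∈ zpowers (a * b), ∃ y ∈ zpowers (a * b),
    ∃ w ∈ zpowers (a * b), (x, y, w) ∈ Dt D ∧ g = rr ρ x y w := by
  refine ⟨fun hg => ?_, fun ⟨x, hx, y, hy, w, hw, _, e1⟩ => subset_closure ⟨x, hx, y, hy, w, hw, e1⟩⟩
  obtain ⟨⟨⟨x, y, w⟩, k⟩, ⟨hx, hy, hw⟩, rfl⟩ := (closure_le ((((zpowers (a * b)).prod
      ((zpowers (a * b)).prod (zpowers (a * b)))).comap (Dt D).subtype).map ρ)).2 (by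
    rintro _ ⟨x, hx, y, hy, w, hw, rfl⟩
    by_cases k : (x, y, w) ∈ Dt D
    exacts [⟨⟨_, k⟩, ⟨hx, hy, hw⟩, (rr_of_mem ρ k).symm⟩, rr_of_not ρ k ▸ one_mem _]) hg
  exact ⟨x, hx, y, hy, w, hw, k, (rr_of_mem ρ k).symm⟩

theorem rr_mem_Tt {x y w : D} (h1 : (x, y, w) ∈ Dt D) : rr ρ x y w ∈ Tt a b ρ ↔
    x ∈ zpowers (a * b) ∧ y ∈ zpowers (a * b) ∧ w ∈ zpowers (a * b) := by
  refine ⟨fun m => ?_, fun m => h.mem_Tt.2 ⟨x, m.1, y, m.2.1, w, m.2.2, h1, rfl⟩⟩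
  obtain ⟨p, hp, q, hq, r, hr, k, e1⟩ := h.mem_Tt.1 m
  rcases (h.eq_iff h1 k).1 e1 with ⟨rfl, rfl, rfl⟩ | ⟨rfl, rfl, rfl⟩
  exacts [⟨hp, hq, hr⟩, ⟨mul_mem hp h.dw.e_rot, mul_mem hq h.dw.e_rot, mul_mem hr h.dw.e_rot⟩]

theorem T_le : Tt a b ρ ≤ ρ.range := fun g hg => by
  obtain ⟨x, -, y, -, w, -, -, rfl⟩ := h.mem_Tt.1 hg
  exact rr_mem ρ _ _ _

theorem Z_le_T : Zt e ρ ≤ Tt a b ρ := (closure_le _).2 (by
  rintro _ (rfl | rfl)
  exacts [(h.rr_mem_Tt h.ok_z₁).2 ⟨one_mem _, h.dw.e_rot, one_mem _⟩,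
    (h.rr_mem_Tt h.ok_z₂).2 ⟨one_mem _, one_mem _, h.dw.e_rot⟩])

theorem y_mem : yt n a b ρ ∈ Tt a b ρ := subset_closure ⟨_, i_rot, _, i_rot, _, i_rot, rfl⟩

theorem mem_Z_iff {x y w : D} (k : (x, y, w) ∈ Dt D) :
    rr ρ x y w ∈ Zt e ρ ↔ (x = 1 ∨ x = e) ∧ (y = 1 ∨ y = e) ∧ (w = 1 ∨ w = e) := by
  refine ⟨fun m => ?_, fun m => h.mem_Z_of m.1 m.2.1 m.2.2⟩
  rw [h.mem_Zt, h.eq_one_iff k, h.eq_iff k h.ok_z₀, h.eq_iff k h.ok_z₁, h.eq_iff k h.ok_z₂, one_mul,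
    h.dw.ee] at m
  tauto

theorem not_s {x : D} (hx : x * x = e) : ¬ (x = 1 ∨ x = e) := fun k =>
  h.dw.e_ne (hx.symm.trans (h.s_sq k))

theorem rf_s {x : D} (hx : Rf a b x) : ¬ (x = 1 ∨ x = e) := by
  rintro (rfl | rfl)
  exacts [hx (one_mem _), hx h.dw.e_rot]

theorem ord_y (h8 : 8 ∣ n) : orderOf (yt n a b ρ) = 2 ∧ yt n a b ρ ∉ Zt e ρ := by
  have k : yt n a b ρ ∉ Zt e ρ := fun m => h.not_s h.ii ((h.mem_Z_iff (h.ok_y h8)).1 m).1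
  exact ⟨ord_two (by rw [rr_mul ρ (h.ok_y h8) (h.ok_y h8), h.ii, h.eee])
    fun e1 => k (e1 ▸ one_mem _), k⟩

theorem T_comm {x y : G} (hx : x ∈ Tt a b ρ) (hy : y ∈ Tt a b ρ) : x * y = y * x := by
  obtain ⟨p, hp, q, hq, r, hr, k', rfl⟩ := h.mem_Tt.1 hy
  obtain ⟨x, h1, y, h2, w, h3, k, rfl⟩ := h.mem_Tt.1 hx
  exact mem_Cx.1 ((h.comm_rr k k').2 (.inl ⟨rot_comm h1 hp, rot_comm h2 hq, rot_comm h3 hr⟩))

theorem norm_T : St ρ t ≤ normalizer (Tt a b ρ : Set G) := by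
  have k : ∀ d, ∀ x ∈ zpowers (a * b), d * x * d⁻¹ ∈ zpowers (a * b) := fun d x hx =>
    not_not.1 fun m => h.dw.rf_conj.1 m hx
  refine sup_le (fun g hg => mem_normalizer_fintype fun u hu => ?_)
    (zpowers_le.2 (mem_normalizer_fintype fun u hu => ?_)) <;>
    obtain ⟨p, hp, q, hq, r, hr, -, rfl⟩ := h.mem_Tt.1 hu
  · obtain ⟨x, y, w, m, rfl⟩ := mem_B.1 hg
    exact subset_closure ⟨_, k x p hp, _, k y q hq, _, k w r hr, rr_conj ρ m _ _ _⟩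
  · exact subset_closure ⟨_, hp, _, hr, _, hq, h.swap _ _ _⟩

theorem pow_half {x : D} (hx : x ∈ zpowers (a * b)) : x ^ (n / 2) = 1 ∨ x ^ (n / 2) = e := by
  refine h.dw.invol_rot (pow_mem hx _) ?_
  obtain ⟨j, rfl⟩ := mem_zpowers_iff.1 hx
  rw [← pow_add, show n / 2 + n / 2 = n by have := h.dw.four_mul; omega, ← zpow_natCast, ← zpow_mul,
    h.dih.eq_one_iff]
  exact dvd_mul_left _ _

/-- `Z` consists of the `n / 2`-th powers of `T` -/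
theorem normT_le : normalizer (Tt a b ρ : Set G) ≤ normalizer (Zt e ρ : Set G) := fun g hg => by
  have k : ∀ u ∈ Tt a b ρ, g * u ^ (n / 2) * g⁻¹ ∈ Zt e ρ := fun u hu => by
    obtain ⟨x, hx, y, hy, w, hw, m, e1⟩ := h.mem_Tt.1 (conj_mem_of_mem_normalizer hg hu)
    rw [← conj_pow, e1, rr_pow ρ m]
    exact h.mem_Z_of (h.pow_half hx) (h.pow_half hy) (h.pow_half hw)
  have c := mem_zpowers (a * b)
  refine mem_normalizer_fintype fun _ m =>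
    (closure_le ((Zt e ρ).comap (MulAut.conj g).toMonoidHom)).2 ?_ m
  rintro _ (rfl | rfl)
  · have := k _ ((h.rr_mem_Tt (h.ok₁ rfl)).2 ⟨c, one_mem _, c⟩)
    rwa [rr_pow ρ (h.ok₁ rfl), ← h.he, one_pow, ← h.neg, h.dw.ee, one_mul] at this
  · have := k _ ((h.rr_mem_Tt (h.ok₂ rfl)).2 ⟨c, c, one_mem _⟩)
    rwa [rr_pow ρ (h.ok₂ rfl), ← h.he, one_pow, ← h.neg, h.dw.ee, one_mul] at this

theorem norm_Z : St ρ t ≤ normalizer (Zt e ρ : Set G) := h.norm_T.trans h.normT_le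

theorem invol_T {g : G} (hg : g ∈ Tt a b ρ) (h2 : g * g = 1) :
    g ∈ Zt e ρ ∨ 8 ∣ n ∧ (yt n a b ρ)⁻¹ * g ∈ Zt e ρ := by
  refine (h.invol_B (h.T_le hg) h2).imp_right fun k => k.resolve_right ?_
  rintro ⟨k, hk, p, hp, e1⟩
  have m := conj_mem_of_mem_normalizer (h.norm_T (mem_sup_left hk)) hg
  have hr : Rf a b p := hp.elim (· ▸ h.dw.rf_a) (· ▸ h.dw.rf_b)
  rcases e1 with e1 | e1 | e1 <;> rw [e1] at m
  exacts [hr ((h.rr_mem_Tt (h.ok₀ rfl)).1 m).2.1, hr ((h.rr_mem_Tt (h.ok₂ rfl)).1 m).1,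
    hr ((h.rr_mem_Tt (h.ok₁ rfl)).1 m).1]

theorem rot_of_lam {x : D} (hx : h.lam x = 1) : x ∈ zpowers (a * b) :=
  zpowers_le.2 (pow_mem (mem_zpowers _) 2) (h.dw.lam_eq_one.1 hx)

theorem sq_B {g : G} (hg : g ∈ St ρ t) : g * g ∈ ρ.range := by
  obtain ⟨x, y, w, k, rfl | rfl⟩ := h.mem_S.1 hg
  exacts [mul_mem (rr_mem ρ _ _ _) (rr_mem ρ _ _ _), h.mul_tt k k ▸ rr_mem ρ _ _ _]

theorem pow_four {g : G} (hg : g ∈ St ρ t) : g ^ 4 ∈ Tt a b ρ := by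
  obtain ⟨x, y, w, k, e1⟩ := mem_B.1 (h.sq_B hg)
  have m : ∀ x, x * x ∈ zpowers (a * b) := fun x => h.rot_of_lam (by rw [map_mul, K4.sq])
  rw [show 4 = 2 * 2 from rfl, pow_mul, pow_two, pow_two, e1, rr_mul ρ k k]
  exact subset_closure ⟨_, m x, _, m y, _, m w, rfl⟩

theorem lam_comm (x y : D) : h.lam ⁅x, y⁆ = 1 := by
  rw [map_commutatorElement, commutatorElement_eq_one_iff_mul_comm, mul_comm]

theorem comm_B {x y : G} (hx : x ∈ ρ.range) (hy : y ∈ ρ.range) : ⁅x, y⁆ ∈ Tt a b ρ := by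
  obtain ⟨x, y, w, k, rfl⟩ := mem_B.1 hx
  obtain ⟨p, q, r, k', rfl⟩ := mem_B.1 hy
  exact subset_closure ⟨_, h.rot_of_lam (h.lam_comm _ _), _, h.rot_of_lam (h.lam_comm _ _), _,
    h.rot_of_lam (h.lam_comm _ _), rr_comm₂ ρ k k'⟩

/-- the patterns of reflections -/
theorem pat {x y w : D} (k : (x, y, w) ∈ Dt D) : ¬ Rf a b x ∧ ¬ Rf a b y ∧ ¬ Rf a b w ∨
    ¬ Rf a b x ∧ Rf a b y ∧ Rf a b w ∨ Rf a b x ∧ Rf a b y ∧ ¬ Rf a b w ∨
      Rf a b x ∧ ¬ Rf a b y ∧ Rf a b w := by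
  have := (by decide : ∀ x y w : K4, x * y * w = 1 →
    ((x = kα ∨ x = kβ) ↔ ¬ ((y = kα ∨ y = kβ) ↔ (w = kα ∨ w = kβ)))) _ _ _ (h.ok_iff.1 k)
  simp only [← h.dw.rf_lam] at this
  tauto

theorem rf_mul {x y : D} (hx : Rf a b x) (hy : Rf a b y) : x * y ∈ zpowers (a * b) := by
  obtain ⟨i, rfl⟩ := h.dw.rf_iff.1 hx
  obtain ⟨j, rfl⟩ := h.dw.rf_iff.1 hy
  exact ⟨_, (h.dih.rpows_mul_rpows i j).symm⟩

theorem relIndex_T : (Tt a b ρ).relIndex (St ρ t) ≤ 8 := by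
  have k := card_le_of_cover (U := ρ.range) (fun p : Tt a b ρ × Fin 4 =>
    p.1 * ![1, rr ρ 1 a a, rr ρ a a 1, rr ρ a 1 a] p.2) fun g hg => by
      obtain ⟨x, y, w, k, rfl⟩ := mem_B.1 hg
      have m := fun {x} (hx : Rf a b x) => h.rf_mul hx h.dw.rf_a
      have : ∀ {p q r} (j : Fin 4), (p, q, r) ∈ Dt D →
          ![1, rr ρ 1 a a, rr ρ a a 1, rr ρ a 1 a] j = (rr ρ p q r)⁻¹ →
          x * p ∈ zpowers (a * b) → y * q ∈ zpowers (a * b) → w * r ∈ zpowers (a * b) →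
          rr ρ x y w ∈ Set.range fun p : Tt a b ρ × Fin 4 =>
            p.1 * ![1, rr ρ 1 a a, rr ρ a a 1, rr ρ a 1 a] p.2 := fun j k' e1 hx hy hw =>
        ⟨(⟨_, (h.rr_mem_Tt (Dt_mul k k')).2 ⟨hx, hy, hw⟩⟩, j), by
          simp only [e1, ← rr_mul ρ k k', mul_inv_cancel_right]⟩
      rcases h.pat k with ⟨hx, hy, hw⟩ | ⟨hx, hy, hw⟩ | ⟨hx, hy, hw⟩ | ⟨hx, hy, hw⟩
      · exact ⟨(⟨_, (h.rr_mem_Tt k).2 ⟨not_not.1 hx, not_not.1 hy, not_not.1 hw⟩⟩, 0), mul_one _⟩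
      · exact this 1 (h.ok₀ rfl) (by simp [rr_inv, h.dw.a_inv]) (by simpa [Rf] using hx) (m hy) (m hw)
      · exact this 2 (h.ok₂ rfl) (by simp [rr_inv, h.dw.a_inv]) (m hx) (m hy) (by simpa [Rf] using hw)
      · exact this 3 (h.ok₁ rfl) (by simp [rr_inv, h.dw.a_inv]) (m hx) (by simpa [Rf] using hy) (m hw)
  rw [Nat.card_prod, Nat.card_fin, ← card_mul_relIndex' h.T_le] at k
  rw [← relIndex_mul_relIndex _ _ _ h.T_le le_sup_left, h.relIndex_B]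
  have := Nat.le_of_mul_le_mul_left k Nat.card_pos
  omega

theorem card_D' : 2 * Nat.card (zpowers ((a * b) ^ 2)) = n := by
  have := h.dw.four_mul
  rw [Nat.card_zpowers, orderOf_pow_of_dvd two_ne_zero (by rw [h.dih.ord]; omega), h.dih.ord]
  omega

theorem cent_rf {p x : D} (hp : Rf a b p) (hx : x ∈ zpowers (a * b)) (k : x * p = p * x) :
    x = 1 ∨ x = e := by
  rcases (h.dw.comm_rf hp).1 k with k | k | rfl | rfl
  exacts [.inl k, .inr k, absurd hx hp, absurd hx (h.dw.rf_mul_e.2 hp)]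

theorem s_mul {s s' : D} (hs : s = 1 ∨ s = e) (hs' : s' = 1 ∨ s' = e) : s * s' = 1 ∨ s * s' = e := by
  rcases hs with rfl | rfl <;> rcases hs' with rfl | rfl <;> simp [h.dw.ee]

/-- `T` is the only large abelian subgroup -/
theorem uniq_T (h8 : 8 ∣ n) {U : Subgroup G} (hU : U ≤ St ρ t)
    (hc : ∀ x ∈ U, ∀ y ∈ U, x * y = y * x) (hn : Nat.card (Tt a b ρ) ≤ Nat.card U) :
    U = Tt a b ρ := by
  refine eq_of_le_of_card_ge (fun g hg => by_contra fun hgT => ?_) hn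
  have : Finite D := Nat.finite_of_card_ne_zero (by have := h.dw.four_le; rw [h.dw.card_D]; omega)
  have h1 := card_mul_relIndex' (h.T_le.trans (le_sup_left : _ ≤ St ρ t))
  have h2 := Nat.mul_le_mul hn h.relIndex_T
  have h3 := h.card_D'
  have h4 := h.dw.four_le
  obtain ⟨m, hm⟩ := h8
  rw [h1, h.card_S] at h2
  by_cases hB : ρ.range ⊓ U ≤ Tt a b ρ
  · obtain ⟨x, y, w, k, rfl | rfl⟩ := h.mem_S.1 (hU hg)
    · exact hgT (hB ⟨rr_mem ρ _ _ _, hg⟩)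
    have hx : x ∈ zpowers (a * b) := by
      have := ((h.rr_mem_Tt (Dt_mul k (Dt_swap k))).1
        (h.mul_tt k k ▸ hB ⟨h.sq_B (hU hg), mul_mem hg hg⟩)).2.1
      refine not_not.1 fun hx => ?_
      rcases h.pat k with m | m | m | m
      exacts [m.1 hx, m.1 hx, m.2.1 ((mul_mem_cancel_right (not_not.1 m.2.2)).1 this),
        m.2.2 ((mul_mem_cancel_left (not_not.1 m.2.1)).1 this)]
    have h5 := card_le_of_cover (U := ρ.range ⊓ U) (fun p : zpowers ((a * b) ^ 2) × zpowers (a * b) =>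
      rr ρ p.1 p.2 (y⁻¹ * p.2 * y)) fun u hu => by
        obtain ⟨p, hp, q, hq, r, hr, k', rfl⟩ := h.mem_Tt.1 (hB hu)
        obtain rfl : r = y⁻¹ * q * y := by
          rcases (h.comm_t k k').1 (mem_Cx.2 (hc _ hg _ hu.2)) with m | m
          exacts [by rw [mul_assoc, ← m.2.1, inv_mul_cancel_left],
            absurd ((rot_comm hp hx).trans m.1) (h.ne_e _)]
        exact ⟨(⟨p, h.dw.lam_eq_one.1 (by simpa [h.ok_iff, mul_assoc, K4.sq] using k')⟩, ⟨q, hq⟩), rfl⟩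
    have h6 := card_le_inf (T := ρ.range) hU
    rw [Nat.card_prod, Nat.card_zpowers (a * b), h.dih.ord] at h5
    rw [h.relIndex_B] at h6
    have : n ^ 3 ≤ n ^ 2 * 4 := by nlinarith
    rw [pow_succ] at this
    have := Nat.le_of_mul_le_mul_left this (by positivity)
    omega
  obtain ⟨g, ⟨hgB, hg⟩, hgT⟩ := SetLike.not_le_iff_exists.1 hB
  obtain ⟨x, y, w, k, rfl⟩ := mem_B.1 hgB
  obtain ⟨f, hf⟩ : ∃ f : D → D → G, ∀ u ∈ Tt a b ρ ⊓ U, ∃ p s, h.lam p = 1 ∧ (s = 1 ∨ s = e) ∧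
      f p s = u := by
    have c : ∀ {p q r}, (p, q, r) ∈ Dt D → rr ρ p q r ∈ U → p * x = x * p ∨ q * y = y * q ∨
        r * w = w * r → p * x = x * p ∧ q * y = y * q ∧ r * w = w * r := fun k' m m' =>
      ((h.comm_rr k' k).1 (mem_Cx.2 (hc _ m _ hg))).resolve_right fun ⟨e1, e2, e3⟩ =>
        m'.elim (fun m => h.ne_e _ (m.symm.trans e1)) fun m => m.elim
          (fun m => h.ne_e _ (m.symm.trans e2)) fun m => h.ne_e _ (m.symm.trans e3)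
    rcases h.pat k with ⟨hx, hy, hw⟩ | ⟨hx, hy, hw⟩ | ⟨hx, hy, hw⟩ | ⟨hx, hy, hw⟩
    · exact absurd ((h.rr_mem_Tt k).2 ⟨not_not.1 hx, not_not.1 hy, not_not.1 hw⟩) hgT
    on_goal 1 => refine ⟨fun p s => rr ρ p 1 s, fun u hu => ?_⟩
    on_goal 2 => refine ⟨fun p s => rr ρ 1 s p, fun u hu => ?_⟩
    on_goal 3 => refine ⟨fun p s => rr ρ 1 p s, fun u hu => ?_⟩
    all_goals
      obtain ⟨p, hp, q, hq, r, hr, k', rfl⟩ := h.mem_Tt.1 hu.1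
      have k1 := h.ok_iff.1 k'
    · obtain ⟨-, e1, e2⟩ := c k' hu.2 (.inl (rot_comm hp (not_not.1 hx)))
      have s1 := h.cent_rf hy hq e1
      have s2 := h.cent_rf hw hr e2
      exact ⟨p * q, r * q, by simpa [h.lam_s s2] using k1, h.s_mul s2 s1, by
        simp only [← h.s_sq s1, h.shift s1]⟩
    · obtain ⟨e1, e2, -⟩ := c k' hu.2 (.inr (.inr (rot_comm hr (not_not.1 hw))))
      have s1 := h.cent_rf hx hp e1
      have s2 := h.cent_rf hy hq e2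
      exact ⟨r * p, q * p, by simpa [h.lam_s s2, h.lam_s s1] using k1, h.s_mul s2 s1, by
        simp only [← h.s_sq s1, h.shift s1]⟩
    · obtain ⟨e1, -, e2⟩ := c k' hu.2 (.inr (.inl (rot_comm hq (not_not.1 hy))))
      have s1 := h.cent_rf hx hp e1
      have s2 := h.cent_rf hw hr e2
      exact ⟨q * p, r * p, by simpa [h.lam_s s2, h.lam_s s1] using k1, h.s_mul s2 s1, by
        simp only [← h.s_sq s1, h.shift s1]⟩
  have h5 := card_le_of_cover (U := Tt a b ρ ⊓ U) (fun p : zpowers ((a * b) ^ 2) × Fin 2 =>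
    f p.1 (![1, e] p.2)) fun u hu => by
      obtain ⟨p, s, hp, rfl | rfl, rfl⟩ := hf u hu
      exacts [⟨(⟨p, h.dw.lam_eq_one.1 hp⟩, 0), rfl⟩, ⟨(⟨p, h.dw.lam_eq_one.1 hp⟩, 1), rfl⟩]
  have h6 := (card_le_inf hU).trans (Nat.mul_le_mul_left _ h.relIndex_T)
  rw [Nat.card_prod, Nat.card_fin] at h5
  have : n * (n * n) ≤ n * 32 := by nlinarith
  have := (Nat.mul_le_mul (show 8 ≤ n by omega) (show 8 ≤ n by omega)).trans
    (Nat.le_of_mul_le_mul_left this (by omega))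
  omega

theorem comm_i (x : D) : Rf a b x ∧ ⁅x, (a * b) ^ (n / 4)⁆ = e ∨
    ¬ Rf a b x ∧ ⁅x, (a * b) ^ (n / 4)⁆ = 1 := by
  by_cases hx : Rf a b x
  · exact .inl ⟨hx, by rw [commutatorElement_def, h.conj_i hx, h.dw.e_comm, mul_inv_cancel_right]⟩
  · exact .inr ⟨hx, commutatorElement_eq_one_iff_mul_comm.2 (rot_comm (not_not.1 hx) i_rot)⟩

/-- an element of `B` acts on `y Z` according to its pattern of reflections -/
theorem act_y (h8 : 8 ∣ n) {x y w : D} (h1 : (x, y, w) ∈ Dt D) :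
    (⁅rr ρ x y w, yt n a b ρ⁆ = 1 ↔ ¬ Rf a b x ∧ ¬ Rf a b y ∧ ¬ Rf a b w) ∧
    (⁅rr ρ x y w, yt n a b ρ⁆ = rr ρ 1 e e ↔ ¬ Rf a b x ∧ Rf a b y ∧ Rf a b w) ∧
    (⁅rr ρ x y w, yt n a b ρ⁆ = rr ρ 1 e 1 ↔ Rf a b x ∧ ¬ Rf a b y ∧ Rf a b w) ∧
    (⁅rr ρ x y w, yt n a b ρ⁆ = rr ρ 1 1 e ↔ Rf a b x ∧ Rf a b y ∧ ¬ Rf a b w) := by
  have k := fun x => (h.comm_i x).elim (fun k => Or.inr k.2) fun k => Or.inl k.2
  have ok := h.ok_s (k x) (k y) (k w)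
  have := h.pat h1
  rw [rr_comm₂ ρ h1 (h.ok_y h8), h.eq_one_iff ok, h.eq_iff ok h.ok_z₀, h.eq_iff ok h.ok_z₁,
    h.eq_iff ok h.ok_z₂, one_mul, h.dw.ee]
  rcases h.comm_i x with ⟨hx, ex⟩ | ⟨hx, ex⟩ <;> rcases h.comm_i y with ⟨hy, ey⟩ | ⟨hy, ey⟩ <;>
    rcases h.comm_i w with ⟨hw, ew⟩ | ⟨hw, ew⟩ <;>
    simp [hx, hy, hw, ex, ey, ew, h.dw.e_ne, h.dw.e_ne.symm] at this ⊢

theorem T_of_y (h8 : 8 ∣ n) {g : G} (hg : g ∈ ρ.range) (hc : g ∈ Cx (yt n a b ρ)) :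
    g ∈ Tt a b ρ := by
  obtain ⟨x, y, w, k, rfl⟩ := mem_B.1 hg
  simpa [h.rr_mem_Tt k, Rf] using
    (h.act_y h8 k).1.1 (commutatorElement_eq_one_iff_mul_comm.2 (mem_Cx.1 hc))

theorem t_y : t ∈ Cx (yt n a b ρ) := mem_Cx'.2 (h.swap _ _ _)

theorem cent_y (h8 : 8 ∣ n) : St ρ t ⊓ Cx (yt n a b ρ) = Tt a b ρ ⊔ zpowers t := by
  refine le_antisymm (fun g hg => ?_) (sup_le (le_inf (h.T_le.trans le_sup_left) fun g hg =>
    mem_Cx.2 (h.T_comm hg h.y_mem)) (zpowers_le.2 ⟨t_mem_S, h.t_y⟩))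
  obtain ⟨x, y, w, k, rfl | rfl⟩ := h.mem_S.1 hg.1
  exacts [mem_sup_left (h.T_of_y h8 (rr_mem ρ _ _ _) hg.2), mul_mem_sup (h.T_of_y h8 (rr_mem ρ _ _ _)
    ((mul_mem_cancel_right h.t_y).1 hg.2)) (mem_zpowers t)]

theorem mem_R {g : G} : g ∈ Tt a b ρ ⊔ zpowers t ↔ g ∈ Tt a b ρ ∨ g * t ∈ Tt a b ρ := by
  rw [TwoGrp.mem_sup_zpowers_iff (h.norm_T t_mem_S) (h.tt ▸ one_mem _)]
  exact or_congr_right ⟨fun ⟨c, hc, e1⟩ => by rwa [e1, mul_assoc, h.tt, mul_one],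
    fun m => ⟨_, m, by rw [mul_assoc, h.tt, mul_one]⟩⟩

theorem y_nmem (h8 : 8 ∣ n) :
    yt n a b ρ ∉ ⁅Tt a b ρ ⊔ zpowers t, Tt a b ρ ⊔ zpowers t⁆ := fun m => by
  refine h.not_s h.ii ((h.rr_mem_Sk (h.ok_y h8)).1.1 (commutator_le.2 (fun g hg g' hg' => ?_) m))
  have k : ∀ g ∈ Tt a b ρ ⊔ zpowers t, ∃ u ∈ Tt a b ρ, ∃ s ∈ Sk ρ t, g = u * s := fun g hg =>
    (h.mem_R.1 hg).elim (fun m => ⟨g, m, 1, one_mem _, (mul_one g).symm⟩) fun m =>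
      ⟨_, m, _, inv_mem t_Sk, (mul_inv_cancel_right _ _).symm⟩
  obtain ⟨u, hu, s, hs, rfl⟩ := k g hg
  obtain ⟨v, hv, r, hr, rfl⟩ := k g' hg'
  have c := fun u (hu : u ∈ Tt a b ρ) s (hs : s ∈ Sk ρ t) =>
    conj_mem_of_mem_normalizer (h.norm_Sk (mem_sup_left (h.T_le hu))) hs
  have := mul_mem (mul_mem (c u hu s hs) (c _ (mul_mem hu hv) _ (mul_mem hr (inv_mem hs))))
    (c v hv _ (inv_mem hr))
  nth_rw 2 [h.T_comm hu hv] at this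
  convert this using 1
  simp only [commutatorElement_def]; group

theorem Z_comm {x g : G} (hx : x ∈ Zt e ρ) (hg : g ∈ ρ.range) : g ∈ Cx x :=
  Cx_comm.1 ((closure_le (Cx g)).2 (by
    rintro _ (rfl | rfl)
    exacts [Cx_comm.1 (h.B_le hg).1, Cx_comm.1 (h.B_le hg).2]) hx)

theorem card_Z : Nat.card (Zt e ρ) = 4 :=
  Invol.card_closure_pair_of_commute h.ord_z.2.1 h.ord_z.2.2.1 (by
    simp [h.eq_iff h.ok_z₁ h.ok_z₂, h.dw.e_ne, h.dw.e_ne.symm]) (mem_Cx.1 (h.B_le (rr_mem ρ _ _ _)).2)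

theorem z₁_t : rr ρ 1 e 1 ∉ Cx t := fun m => h.dw.e_ne ((h.cent_t h.ok_z₁).1 m)

/-- the involutions of `T` generate a group of order at most 8 -/
theorem exists_Y : ∃ Y : Subgroup G, Nat.card Y ≤ 8 ∧ Zt e ρ ≤ Y ∧ yt n a b ρ ∈ Y ∧
    ∀ g ∈ Tt a b ρ, g * g = 1 → g ∈ Y := by
  by_cases h8 : 8 ∣ n
  · exact ⟨Zt e ρ ⊔ zpowers (yt n a b ρ), by
      rw [TwoGrp.card_sup_zpowers (h.norm_Z (rr_mem_S _ _ _)) (sq_of_ord (h.ord_y h8).1 ▸ one_mem _)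
        (h.ord_y h8).2, h.card_Z], le_sup_left, mem_sup_right (mem_zpowers _), fun g hg h2 =>
      (h.invol_T hg h2).elim mem_sup_left fun m => (mul_mem_cancel_left (inv_mem (mem_sup_right
        (mem_zpowers _)))).1 (mem_sup_left m.2)⟩
  · exact ⟨Zt e ρ, by rw [h.card_Z]; omega, le_rfl, by
      rw [yt, rr_of_not ρ (by simpa [h.ok_iff, K4.sq, ← map_pow, h.lam_i] using h8)]; exact one_mem _,
      fun g hg h2 => (h.invol_T hg h2).resolve_right fun m => h8 m.1⟩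

theorem half {F A : Subgroup G} (hF : F ≤ A) (hz : Zt e ρ ≤ A) (hB : F ≤ ρ.range) (ht : F ≤ Cx t)
    (hc : Nat.card A ≤ 2 * Nat.card F) {g : G} (hg : g ∈ A) : g ∈ F ∨ g * rr ρ 1 e 1 ∈ F := by
  have z : rr ρ 1 e 1 ∈ Zt e ρ := subset_closure (.inl rfl)
  have k := norm_of_le_Cx (fun g hg => h.Z_comm z (hB hg) : F ≤ Cx _)
  have zz := sq_of_ord h.ord_z.2.1
  rw [← TwoGrp.card_sup_zpowers k (zz ▸ one_mem _) fun m => h.z₁_t (ht m)] at hc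
  rw [← eq_of_le_of_card_ge (sup_le hF (zpowers_le.2 (hz z))) hc,
    TwoGrp.mem_sup_zpowers_iff k (zz ▸ one_mem _)] at hg
  exact hg.imp_right fun ⟨c, hc, e1⟩ => by rwa [e1, mul_assoc, zz, mul_one]

theorem relIndex_R : (Tt a b ρ).relIndex (Tt a b ρ ⊔ zpowers t) = 2 :=
  TwoGrp.relIndex_sup_zpowers (h.norm_T t_mem_S) (h.tt ▸ one_mem _) fun m => h.nmem (h.T_le m)

theorem act_R {g u : G} (hg : g * t ∈ Tt a b ρ) (hu : u ∈ Tt a b ρ) : g * u * g⁻¹ = t * u * t⁻¹ := by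
  have := h.T_comm hg (conj_mem_of_mem_normalizer (h.norm_T t_mem_S) hu)
  rw [h.t_inv, show g * t * (t * u * t) = g * (t * t) * u * t by group, h.tt, ← mul_assoc,
    mul_left_inj] at this
  rw [h.t_inv, mul_inv_eq_iff_eq_mul, ← this, mul_one]

theorem y_mem_of_eight (h8 : 8 ∣ n) {E : Subgroup G} (hE : E ≤ Tt a b ρ ⊔ zpowers t)
    (h2 : ∀ g ∈ E, g * g = 1) (hc : 8 ≤ Nat.card E) : yt n a b ρ ∈ E := by
  obtain ⟨Y, c, hZ, hy, hY⟩ := h.exists_Y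
  by_cases hT : E ≤ Tt a b ρ
  · exact eq_of_le_of_card_ge (fun g hg => hY g (hT hg) (h2 g hg) : E ≤ Y) (c.trans hc) ▸ hy
  obtain ⟨g, hg, hgT⟩ := SetLike.not_le_iff_exists.1 hT
  have ht : Tt a b ρ ⊓ E ≤ Cx t := fun u hu => Cx_comm.1 (mem_Cx'.2 (by
    rw [← h.act_R ((h.mem_R.1 (hE hg)).resolve_left hgT) hu.1, DW.comm_of_sq h2 hg hu.2,
      mul_inv_cancel_right]))
  have := card_le_inf (T := Tt a b ρ) hE
  rw [h.relIndex_R] at this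
  exact ((h.half (fun g (hg : g ∈ _ ⊓ E) => hY g hg.1 (h2 g hg.2)) hZ (inf_le_left.trans h.T_le) ht (by omega)
    hy).resolve_right fun m => h.z₁_t ((mul_mem_cancel_left (Cx_comm.1 h.t_y)).1 (ht m))).2

/-- a dihedral subgroup of `T ⟨t⟩` of order at least 16 -/
theorem mem_T_of_inv {x v u : G} (hx : x ∈ Tt a b ρ ⊔ zpowers t) (hv : v ∈ Tt a b ρ ⊔ zpowers t)
    (hu : u ∈ Tt a b ρ ⊔ zpowers t) (hi : v * x * v⁻¹ = x⁻¹) (h4 : x ^ 4 ≠ 1)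
    (hc : u * x = x * u) : u ∈ Tt a b ρ := by
  have k : x ≠ x⁻¹ := fun k => h4 (by
    rw [show 4 = 2 * 2 from rfl, pow_mul, pow_two x, mul_eq_one_iff_eq_inv.2 k, one_pow])
  refine (h.mem_R.1 hu).resolve_right fun hu => ?_
  rcases h.mem_R.1 hx with hx | hx
  · rcases h.mem_R.1 hv with hv | hv
    · exact k (by rw [← hi, h.T_comm hv hx, mul_inv_cancel_right])
    · exact k (by rw [← hi, h.act_R hv hx, ← h.act_R hu hx, hc, mul_inv_cancel_right])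
  · obtain ⟨v, hv, hi⟩ : ∃ v ∈ Tt a b ρ, v * x * v⁻¹ = x⁻¹ := by
      refine (h.mem_R.1 hv).elim (fun hv => ⟨v, hv, hi⟩) fun hv => ⟨x * v, ?_, by
        rw [show x * v * x * (x * v)⁻¹ = x * (v * x * v⁻¹) * x⁻¹ by group, hi]; group⟩
      have := mul_mem hx (conj_mem_of_mem_normalizer (h.norm_T t_mem_S) hv)
      rwa [show x * t * (t * (v * t) * t⁻¹) = x * (t * t) * v by group, h.tt, mul_one] at this
    have e1 : x * v * x⁻¹ * v = v * (x * v * x⁻¹) :=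
      h.act_R hx hv ▸ h.T_comm (conj_mem_of_mem_normalizer (h.norm_T t_mem_S) hv) hv
    have e2 : v * x⁻¹ * v⁻¹ = x := by rw [← conj_inv, hi, inv_inv]
    rw [← mul_inv_eq_iff_eq_mul.1 e2, mul_assoc v, mul_assoc v, mul_right_inj] at e1
    refine h4 ?_
    calc x ^ 4 = x * x * (v * x⁻¹ * v⁻¹ * (v * x⁻¹ * v⁻¹)) := by rw [e2, ← pow_two, ← pow_two, ← pow_mul]
      _ = x * x * (v * (x⁻¹ * x⁻¹)) * v⁻¹ := by group
      _ = 1 := by rw [← e1]; group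

theorem lam_cent {p x : D} (hp : Rf a b p) (k : x * p = p * x) :
    x * x = 1 ∧ (h.lam x = 1 ∨ h.lam x = h.lam p) := by
  rcases (h.dw.comm_rf hp).1 k with rfl | rfl | rfl | rfl
  exacts [by simp, ⟨h.dw.ee, .inl h.dw.lam_e⟩, ⟨h.dw.rf_sq hp, .inr rfl⟩,
    ⟨h.dw.rf_sq (h.dw.rf_mul_e.2 hp), .inr (by rw [map_mul, h.dw.lam_e, mul_one])⟩]

theorem pow_half' {p x : D} (hp : Rf a b p) (k : h.lam x = 1 ∨ h.lam x = h.lam p) :
    x ^ (n / 2) = 1 := by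
  have := h.dw.four_mul
  rcases k with k | k
  · exact orderOf_dvd_iff_pow_eq_one.1 ((orderOf_dvd_of_mem_zpowers (h.dw.lam_eq_one.1 k)).trans (by
      rw [orderOf_pow_of_dvd two_ne_zero (by rw [h.dih.ord]; omega), h.dih.ord]))
  · rw [this.2, pow_mul, pow_two, h.dw.rf_sq (h.rf_of_lam hp k), one_pow]

set_option synthInstance.maxSize 1024 in
theorem exp_cent (h8 : 8 ∣ n) {p : D} (hp : Rf a b p) {x g : G}
    (hx : x = rr ρ 1 p p ∨ x = rr ρ p p 1 ∨ x = rr ρ p 1 p) (hg : g ∈ St ρ t ⊓ Cx x) :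
    g ^ (n / 2) = 1 := by
  have l : ∀ x y w c : K4, x * y * w = 1 → ((y = 1 ∨ y = c) → (w = 1 ∨ w = c) → x = 1 ∨ x = c) ∧
      ((x = 1 ∨ x = c) → (y = 1 ∨ y = c) → w = 1 ∨ w = c) ∧
      ((x = 1 ∨ x = c) → (w = 1 ∨ w = c) → y = 1 ∨ y = c) := fun x y w c k =>
    ⟨by revert x y w c; decide, by revert x y w c; decide, by revert x y w c; decide⟩
  have ps := h.rf_s hp
  have ps' := h.rf_s (h.dw.rf_mul_e.2 hp)
  obtain ⟨u, v, w, k, rfl | rfl⟩ := h.mem_S.1 hg.1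
  · obtain ⟨l1, l2, l3⟩ := l _ _ _ (h.lam p) (h.ok_iff.1 k)
    suffices (h.lam u = 1 ∨ h.lam u = h.lam p) ∧ (h.lam v = 1 ∨ h.lam v = h.lam p) ∧
        (h.lam w = 1 ∨ h.lam w = h.lam p) by
      rw [rr_pow ρ k, h.pow_half' hp this.1, h.pow_half' hp this.2.1, h.pow_half' hp this.2.2, rr_one]
    have c := fun {x} k => (h.lam_cent (x := x) hp k).2
    rcases hx with rfl | rfl | rfl
    · obtain ⟨e1, e2⟩ := by simpa [h.dw.e_ne] using (h.comm_rr k (h.ok₀ rfl)).1 hg.2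
      exact ⟨l1 (c e1) (c e2), c e1, c e2⟩
    · obtain ⟨e1, e2⟩ := by simpa [h.dw.e_ne] using (h.comm_rr k (h.ok₂ rfl)).1 hg.2
      exact ⟨c e1, c e2, l2 (c e1) (c e2)⟩
    · obtain ⟨e1, e2⟩ := by simpa [h.dw.e_ne] using (h.comm_rr k (h.ok₁ rfl)).1 hg.2
      exact ⟨c e1, l3 (c e1) (c e2), c e2⟩
  · rcases hx with rfl | rfl | rfl
    · have k' := Dt_mul k (Dt_swap k)
      obtain ⟨e1, e2⟩ := by
        simpa [h.dw.e_ne] using (h.comm_rr k' (h.ok₀ rfl)).1 (h.mul_tt k k ▸ mul_mem hg.2 hg.2)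
      obtain ⟨m, hm⟩ := h8
      rw [h.dw.four_mul.2, pow_mul, pow_two, h.mul_tt k k, rr_pow ρ k', ← pow_two, ← pow_mul,
        ← h.dw.four_mul.2, h.pow_half' hp (by
          rw [mul_eq_one_iff_eq_inv.1 ((mul_assoc _ _ _).symm.trans (h.ok_iff.1 k)), K4.inv, ← map_mul]
          exact (h.lam_cent hp e1).2), show n / 4 = 2 * m by omega, pow_mul, pow_mul, pow_two, pow_two,
        (h.lam_cent hp e1).1, (h.lam_cent hp e2).1, one_pow, rr_one]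
    · rcases (h.comm_t k (h.ok₂ rfl)).1 hg.2 with ⟨-, -, e1⟩ | ⟨-, -, e1⟩ <;> simp at e1 <;> tauto
    · rcases (h.comm_t k (h.ok₁ rfl)).1 hg.2 with ⟨-, e1, -⟩ | ⟨-, e1, -⟩ <;> simp at e1 <;> tauto

theorem At_le (p q r : D) : At e ρ p q r ≤ ρ.range := (closure_le _).2 (by
  rintro _ (rfl | rfl | rfl | rfl) <;> exact rr_mem ρ _ _ _)

theorem Z_le_At (p q r : D) : Zt e ρ ≤ At e ρ p q r := closure_mono (by
  rintro _ (rfl | rfl) <;> simp)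

omit h in
theorem τ_At (p q r : D) : rr ρ p q 1 ∈ At e ρ p q r := subset_closure (by simp)

omit h in
theorem v_At (p q r : D) : rr ρ 1 q r ∈ At e ρ p q r := subset_closure (by simp)

theorem At_aux {p q r : D} (hp : Rf a b p) (hq : h.lam q = h.lam p) (hr : h.lam r = h.lam p) :
    (∀ g, g ∈ At e ρ p q r ↔ ∃ x ∈ Zt e ρ,
      g = x ∨ g = rr ρ 1 q r * x ∨ g = rr ρ p q 1 * x ∨ g = rr ρ p 1 r * x) ∧
      Nat.card (At e ρ p q r) = 16 := by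
  have o1 := h.ok₀ (hq.trans hr.symm)
  have o2 := h.ok₂ hq.symm
  have qq := h.dw.rf_sq (h.rf_of_lam hp hq)
  have e1 : At e ρ p q r = Zt e ρ ⊔ zpowers (rr ρ p q 1) ⊔ zpowers (rr ρ 1 q r) :=
    le_antisymm ((closure_le _).2 (by
      rintro _ (rfl | rfl | rfl | rfl)
      exacts [mem_sup_left (mem_sup_left (subset_closure (.inl rfl))),
        mem_sup_left (mem_sup_left (subset_closure (.inr rfl))),
        mem_sup_left (mem_sup_right (mem_zpowers _)), mem_sup_right (mem_zpowers _)]))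
      (sup_le (sup_le (h.Z_le_At _ _ _) (zpowers_le.2 (τ_At _ _ _))) (zpowers_le.2 (v_At _ _ _)))
  have n1 := h.norm_Z (rr_mem_S p q 1)
  have s1 : rr ρ p q 1 * rr ρ p q 1 ∈ Zt e ρ := by
    rw [rr_mul ρ o2 o2, qq, h.dw.rf_sq hp, mul_one, rr_one]; exact one_mem _
  have n2 := norm_of_le_Cx (sup_le (fun x hx => Cx_comm.1 (h.Z_comm hx (rr_mem ρ 1 q r)))
    (zpowers_le.2 ((h.comm_rr o2 o1).2 (.inl (by simp)))))
  have s2 : rr ρ 1 q r * rr ρ 1 q r ∈ Zt e ρ ⊔ zpowers (rr ρ p q 1) := by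
    rw [rr_mul ρ o1 o1, qq, h.dw.rf_sq (h.rf_of_lam hp hr), mul_one, rr_one]; exact one_mem _
  have c := fun x (hx : x ∈ Zt e ρ) u v w => (mem_Cx.1 (h.Z_comm hx (rr_mem ρ u v w))).symm
  have e2 : rr ρ p q 1 * rr ρ 1 q r = rr ρ p 1 r := by rw [rr_mul ρ o2 o1, qq, mul_one, one_mul]
  refine ⟨fun g => ?_, ?_⟩
  · simp only [e1, TwoGrp.mem_sup_zpowers_iff n2 s2, TwoGrp.mem_sup_zpowers_iff n1 s1]
    constructor
    · rintro ((m | ⟨x, m, rfl⟩) | ⟨_, m | ⟨x, m, rfl⟩, rfl⟩)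
      exacts [⟨_, m, .inl rfl⟩, ⟨_, m, .inr (.inr (.inl (c _ m _ _ _)))⟩,
        ⟨_, m, .inr (.inl (c _ m _ _ _))⟩, ⟨_, m, .inr (.inr (.inr (by rw [mul_assoc, e2, c _ m])))⟩]
    · rintro ⟨x, m, rfl | rfl | rfl | rfl⟩
      exacts [.inl (.inl m), .inr ⟨x, .inl m, (c _ m _ _ _).symm⟩, .inl (.inr ⟨x, m, (c _ m _ _ _).symm⟩),
        .inr ⟨_, .inr ⟨x, m, rfl⟩, by rw [mul_assoc, e2, c _ m]⟩]
  · rw [e1, TwoGrp.card_sup_zpowers n2 s2 fun m => ?_, TwoGrp.card_sup_zpowers n1 s1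
      fun m => h.rf_s hp ((h.mem_Z_iff o2).1 m).1, h.card_Z]
    rcases (TwoGrp.mem_sup_zpowers_iff n1 s1).1 m with m | ⟨x, m, e3⟩
    · exact h.rf_s (h.rf_of_lam hp hq) ((h.mem_Z_iff o1).1 m).2.1
    · rw [← mul_inv_eq_iff_eq_mul, rr_inv, rr_mul ρ o1 (Dt_inv o2)] at e3
      exact h.rf_s (h.rf_of_lam hp hr) (by
        simpa using ((h.mem_Z_iff (Dt_mul o1 (Dt_inv o2))).1 (e3 ▸ m)).2.2)

theorem mem_At {p q r : D} (hp : Rf a b p) (hq : h.lam q = h.lam p) (hr : h.lam r = h.lam p)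
    {g : G} : g ∈ At e ρ p q r ↔ ∃ x ∈ Zt e ρ,
      g = x ∨ g = rr ρ 1 q r * x ∨ g = rr ρ p q 1 * x ∨ g = rr ρ p 1 r * x :=
  (h.At_aux hp hq hr).1 g

theorem Z_sq {x : G} (hx : x ∈ Zt e ρ) : x * x = 1 := by
  rcases h.mem_Zt.1 hx with rfl | rfl | rfl | rfl
  exacts [mul_one 1, sq_of_ord h.ord_z.1, sq_of_ord h.ord_z.2.1, sq_of_ord h.ord_z.2.2.1]

theorem sq_At {p q r : D} (hp : Rf a b p) (hq : h.lam q = h.lam p) (hr : h.lam r = h.lam p)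
    {g : G} (hg : g ∈ At e ρ p q r) : g * g = 1 := by
  have k : ∀ x ∈ Zt e ρ, ∀ {u v w}, (u, v, w) ∈ Dt D → u * u = 1 → v * v = 1 → w * w = 1 →
      rr ρ u v w * x * (rr ρ u v w * x) = 1 := fun x hx u v w k hu hv hw =>
    Invol.mul_mul_self_of_commute (by rw [rr_mul ρ k k, hu, hv, hw, rr_one]) (h.Z_sq hx)
      (mem_Cx.1 (h.Z_comm hx (rr_mem ρ _ _ _)))
  have pp := h.dw.rf_sq hp
  have qq := h.dw.rf_sq (h.rf_of_lam hp hq)
  have rr := h.dw.rf_sq (h.rf_of_lam hp hr)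
  obtain ⟨x, hx, rfl | rfl | rfl | rfl⟩ := (h.mem_At hp hq hr).1 hg
  exacts [h.Z_sq hx, k x hx (h.ok₀ (hq.trans hr.symm)) (mul_one 1) qq rr,
    k x hx (h.ok₂ hq.symm) pp qq (mul_one 1), k x hx (h.ok₁ hr.symm) pp (mul_one 1) rr]

theorem elem_At {p q r : D} (hp : Rf a b p) (hq : h.lam q = h.lam p) (hr : h.lam r = h.lam p) :
    IsElementaryAbelian 2 (At e ρ p q r) ∧ Nat.card (At e ρ p q r) = 16 :=
  ⟨⟨⟨⟨fun x y => Subtype.ext (DW.comm_of_sq (fun _ => h.sq_At hp hq hr) x.2 y.2)⟩⟩,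
    fun g hg => pow_two g ▸ h.sq_At hp hq hr hg⟩, (h.At_aux hp hq hr).2⟩

theorem cx_cases {p x : D} (hp : Rf a b p) (k : x ∈ Cx p) : ∃ s, (s = 1 ∨ s = e) ∧
    (x = 1 * s ∧ h.lam x = 1 ∨ x = p * s ∧ h.lam x = h.lam p) := by
  rcases (h.dw.comm_rf hp).1 (mem_Cx.1 k) with rfl | rfl | rfl | rfl
  exacts [⟨1, by simp⟩, ⟨x, by simp [h.dw.lam_e]⟩, ⟨1, by simp⟩, ⟨e, by simp [h.dw.lam_e]⟩]

theorem mem_At_of {p q r x y w : D} (hp : Rf a b p) (hq : h.lam q = h.lam p) (hr : h.lam r = h.lam p)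
    (k : (x, y, w) ∈ Dt D) (hx : x ∈ Cx p) (hy : y ∈ Cx q) (hw : w ∈ Cx r) :
    rr ρ x y w ∈ At e ρ p q r := by
  obtain ⟨s, hs, ex⟩ := h.cx_cases hp hx
  obtain ⟨s', hs', ey⟩ := h.cx_cases (h.rf_of_lam hp hq) hy
  obtain ⟨s'', hs'', ew⟩ := h.cx_cases (h.rf_of_lam hp hr) hw
  have k1 := h.ok_iff.1 k
  have p1 : h.lam p ≠ 1 := fun m => hp (h.rot_of_lam m)
  have m := fun {u v w} k => rr_mul ρ (x := u) (y := v) (w := w) k (h.ok_s hs hs' hs'')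
  refine (h.mem_At hp hq hr).2 ⟨_, h.mem_Z_of hs hs' hs'', ?_⟩
  rcases ex with ⟨rfl, ex⟩ | ⟨rfl, ex⟩ <;> rcases ey with ⟨rfl, ey⟩ | ⟨rfl, ey⟩ <;>
    rcases ew with ⟨rfl, ew⟩ | ⟨rfl, ew⟩ <;> rw [ex, ey, ew] at k1 <;>
    first
    | exact absurd k1 (by simpa [hq, hr, K4.sq] using p1)
    | simp [m (h.ok₀ (hq.trans hr.symm)), m (h.ok₂ hq.symm), m (h.ok₁ hr.symm)]

/-- the elementary abelian subgroups of `B` -/
theorem elem_B {E : Subgroup G} (hE : E ≤ ρ.range) (h2 : ∀ x ∈ E, x * x = 1) : E ≤ Tt a b ρ ∨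
    ∃ p q r, Rf a b p ∧ h.lam q = h.lam p ∧ h.lam r = h.lam p ∧ E ≤ At e ρ p q r := by
  refine or_iff_not_imp_left.2 fun hT => ?_
  have sq : ∀ {x y w} (k : (x, y, w) ∈ Dt D), ρ ⟨_, k⟩ ∈ E → x * x = 1 ∧ y * y = 1 ∧ w * w = 1 :=
    fun {x y w} k m => by
      rw [← rr_of_mem] at m
      refine ((h.eq_one_iff (Dt_mul k k)).1 (rr_mul ρ k k ▸ h2 _ m)).resolve_right fun ⟨hx, hy, hw⟩ => ?_
      have r := fun {x} (hx : x * x = e) =>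
        h.dih.mem_zpowers_of_sq_ne_one (mem_top x) (hx ▸ h.dw.e_ne)
      rcases h.invol_T ((h.rr_mem_Tt k).2 ⟨r hx, r hy, r hw⟩) (h2 _ m) with z | ⟨h8, z⟩
      · exact h.not_s hx ((h.mem_Z_iff k).1 z).1
      · refine hT fun g hg => h.T_of_y h8 (hE hg) (Cx_comm.1 ?_)
        simpa using mul_mem (mem_Cx.2 (DW.comm_of_sq h2 m hg)) (inv_mem (Cx_comm.1 (h.Z_comm z (hE hg))))
  obtain ⟨p, hp, h0⟩ := h.dw.elem_le (U := (E.comap ρ).map ((MonoidHom.fst D _).comp (Dt D).subtype))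
    (by rintro _ ⟨⟨⟨x, y, w⟩, k⟩, m, rfl⟩; exact (sq k m).1)
  obtain ⟨q, hq, h1⟩ := h.dw.elem_le (U := (E.comap ρ).map ((MonoidHom.fst D _).comp
    ((MonoidHom.snd D _).comp (Dt D).subtype))) (by
      rintro _ ⟨⟨⟨x, y, w⟩, k⟩, m, rfl⟩; exact (sq k m).2.1)
  obtain ⟨r, hr, h2⟩ := h.dw.elem_le (U := (E.comap ρ).map ((MonoidHom.snd D _).comp
    ((MonoidHom.snd D _).comp (Dt D).subtype))) (by
      rintro _ ⟨⟨⟨x, y, w⟩, k⟩, m, rfl⟩; exact (sq k m).2.2)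
  have key : ∀ p' q' r', Rf a b p' → h.lam q' = h.lam p' → h.lam r' = h.lam p' →
      (∀ x y w, (x, y, w) ∈ Dt D → x ∈ Cx p → y ∈ Cx q → w ∈ Cx r →
        x ∈ Cx p' ∧ y ∈ Cx q' ∧ w ∈ Cx r') →
      ∃ p q r, Rf a b p ∧ h.lam q = h.lam p ∧ h.lam r = h.lam p ∧ E ≤ At e ρ p q r :=
    fun p' q' r' hp hq hr k => ⟨p', q', r', hp, hq, hr, fun g hg => by
      obtain ⟨⟨⟨x, y, w⟩, m⟩, rfl⟩ := hE hg
      obtain ⟨k0, k1, k2⟩ := k x y w m (h0 ⟨_, hg, rfl⟩) (h1 ⟨_, hg, rfl⟩) (h2 ⟨_, hg, rfl⟩)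
      exact rr_of_mem ρ m ▸ h.mem_At_of hp hq hr m k0 k1 k2⟩
  have odd : ∀ {p q r x y w}, Rf a b p → Rf a b q → h.lam r = h.lam q → h.lam q ≠ h.lam p →
      h.lam x * h.lam y * h.lam w = 1 → x ∈ Cx p → y ∈ Cx q → w ∈ Cx r → x ∈ Cx q :=
    fun hp hq e1 ne k hx hy hw => by
      obtain ⟨s, hs, ⟨rfl, -⟩ | ⟨-, ex⟩⟩ := h.cx_cases hp hx
      · exact mem_Cx.2 (by rw [one_mul, h.s_comm hs])
      have p1 := fun m => hp (h.rot_of_lam m)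
      rcases (h.lam_cent hq (mem_Cx.1 hy)).2 with ey | ey <;>
        rcases (h.lam_cent (h.rf_of_lam hq e1) (mem_Cx.1 hw)).2 with ew | ew <;>
        rw [ex, ey, ew] at k
      exacts [(p1 (by simpa using k)).elim, (ne (by simpa [e1, mul_eq_one_iff_eq_inv', K4.inv] using k)).elim,
        (ne (by simpa [mul_eq_one_iff_eq_inv', K4.inv] using k)).elim,
        (p1 (by simpa [e1, mul_assoc, K4.sq] using k)).elim]
  by_cases e1 : h.lam q = h.lam p <;> by_cases e2 : h.lam r = h.lam p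
  · exact key p q r hp e1 e2 fun _ _ _ _ hx hy hw => ⟨hx, hy, hw⟩
  · exact key p q p hp e1 rfl fun x y w k hx hy hw => ⟨hx, hy, odd hr hp e1 (Ne.symm e2)
      (by rw [mul_assoc, mul_comm, h.ok_iff.1 k]) hw hx hy⟩
  · exact key p p r hp rfl e2 fun x y w k hx hy hw => ⟨hx, odd hq hp e2 (Ne.symm e1)
      (by rw [mul_comm (h.lam y), h.ok_iff.1 k]) hy hx hw, hw⟩
  · have e3 : h.lam r = h.lam q := by
      rcases h.dw.rf_lam.1 hp with k1 | k1 <;> rcases h.dw.rf_lam.1 hq with k2 | k2 <;>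
        rcases h.dw.rf_lam.1 hr with k3 | k3 <;>
        first | exact k3.trans k2.symm | exact absurd (k2.trans k1.symm) e1 | exact absurd (k3.trans k1.symm) e2
    exact key q q r hq rfl e3 fun x y w k hx hy hw => ⟨odd hp hq e3 e1 (h.ok_iff.1 k) hx hy hw, hy, hw⟩

theorem lt_of_t {E : Subgroup G} (hE : E ≤ St ρ t) (h2 : ∀ x ∈ E, x * x = 1) (ht : t ∈ E) :
    Nat.card E < 16 := by
  by_contra hc
  have h1 := card_le_inf (T := ρ.range) hE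
  have h3 : ρ.range ⊓ E ≤ Cx t := fun g hg => mem_Cx.2 (DW.comm_of_sq h2 hg.2 ht)
  rw [h.relIndex_B] at h1
  rcases h.elem_B (inf_le_left : ρ.range ⊓ E ≤ _) fun g hg => h2 g hg.2 with m | ⟨p, q, r, hp, hq, hr, m⟩
  · obtain ⟨Y, c, hZ, -, hY⟩ := h.exists_Y
    exact h.z₁_t (h3 (eq_of_le_of_card_ge (fun g hg => hY g (m hg) (h2 g hg.2) : ρ.range ⊓ E ≤ Y)
      (by omega) ▸ hZ (subset_closure (.inl rfl))))
  · have o := h.ok₂ hq.symm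
    rcases h.half m (h.Z_le_At _ _ _) inf_le_left h3 (by rw [(h.elem_At hp hq hr).2]; omega)
      (τ_At p q r) with k | k
    · exact h.rf_s (h.rf_of_lam hp hq) (.inl ((h.cent_t o).1 (h3 k)))
    · rw [rr_mul ρ o h.ok_z₁] at k
      exact h.rf_s (h.dw.rf_mul_e.2 (h.rf_of_lam hp hq)) (.inl
        (((h.cent_t (Dt_mul o h.ok_z₁)).1 (h3 k)).trans (mul_one 1)))

theorem eq_At {E : Subgroup G} (hE : E ≤ St ρ t) (h2 : ∀ x ∈ E, x * x = 1)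
    (hc : 16 ≤ Nat.card E) : ∃ p q r, Rf a b p ∧ h.lam q = h.lam p ∧ h.lam r = h.lam p ∧
      E = At e ρ p q r := by
  have hB : E ≤ ρ.range := fun g hg => by_contra fun hn => by
    obtain ⟨k, hk, e1⟩ := h.invol_out (hE hg) hn (h2 g hg)
    have h3 : cj k E ≤ St ρ t := (cj_mono _ hE).trans (cj_eq_of_mem (mem_sup_left hk)).le
    have h4 : ∀ x ∈ cj k E, x * x = 1 := by
      rintro _ ⟨w, hw, rfl⟩
      rw [← map_mul, h2 w hw, map_one]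
    rw [← card_cj k] at hc
    rcases e1 with e1 | ⟨h8, e1⟩
    · exact (h.lt_of_t h3 h4 (e1 ▸ conj_mem_cj.2 hg)).not_ge hc
    · obtain ⟨ρ', h', e2, -⟩ := h.twist h8
      exact (h'.lt_of_t (h3.trans (sup_le (e2 ▸ le_sup_left) (zpowers_le.2 ((mul_mem_cancel_left
        (mem_sup_left (e2 ▸ rr_mem ρ _ _ _))).1 t_mem_S)))) h4 (e1 ▸ conj_mem_cj.2 hg)).not_ge hc
  rcases h.elem_B hB h2 with m | ⟨p, q, r, hp, hq, hr, m⟩
  · obtain ⟨Y, c, -, -, hY⟩ := h.exists_Y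
    have := card_le_of_le (fun g hg => hY g (m hg) (h2 g hg) : E ≤ Y)
    omega
  · exact ⟨p, q, r, hp, hq, hr, eq_of_le_of_card_ge m ((h.elem_At hp hq hr).2 ▸ hc)⟩

theorem cj_At {x y w : D} (h1 : (x, y, w) ∈ Dt D) (p q r : D) : cj (rr ρ x y w) (At e ρ p q r) =
    At e ρ (x * p * x⁻¹) (y * q * y⁻¹) (w * r * w⁻¹) := by
  simp [At, MonoidHom.map_closure, Set.image_insert_eq, rr_conj ρ h1, h.dw.e_comm]

theorem t_norm_At {p q : D} (hp : Rf a b p) (hq : h.lam q = h.lam p) :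
    t ∈ normalizer (At e ρ p q q : Set G) := by
  refine mem_normalizer_fintype fun _ m =>
    (closure_le ((At e ρ p q q).comap (MulAut.conj t).toMonoidHom)).2 ?_ m
  rintro _ (rfl | rfl | rfl | rfl) <;> refine Set.mem_of_eq_of_mem (s := At e ρ p q q) (h.swap _ _ _) ?_
  exacts [subset_closure (by simp), subset_closure (by simp),
    (h.mem_At hp hq hq).2 ⟨1, one_mem _, by simp⟩, v_At _ _ _]

theorem conj_At {p q r : D} (hp : h.lam p = kα) (hq : h.lam q = kα) (hr : h.lam r = kα) :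
    ∃ k ∈ ρ.range, cj k (At e ρ p q r) = At e ρ a a a ∨
      cj k (At e ρ p q r) = At e ρ ((a * b) ^ 2 * a) a a := by
  obtain ⟨x, hx⟩ := h.dw.conj_a' hp
  obtain ⟨y, hy⟩ := h.dw.conj_a' hq
  obtain ⟨w, hw⟩ := h.dw.conj_a' hr
  have k : ∀ d, h.lam x * h.lam y * h.lam w = h.lam d → d * a * d⁻¹ = a ∨ d * a * d⁻¹ = (a * b) ^ 2 * a →
      ∃ k ∈ ρ.range, cj k (At e ρ p q r) = At e ρ a a a ∨
        cj k (At e ρ p q r) = At e ρ ((a * b) ^ 2 * a) a a := fun d hd e1 =>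
    ⟨_, rr_mem ρ (d * x) y w, by
      rw [h.cj_At (h.ok_iff.2 (by rw [map_mul, mul_assoc, mul_assoc, ← mul_assoc (h.lam x), hd, K4.sq])),
        show d * x * p * (d * x)⁻¹ = d * (x * p * x⁻¹) * d⁻¹ by group, hx, hy, hw]
      exact e1.imp (fun e1 => by rw [e1]) fun e1 => by rw [e1]⟩
  have c : a * b * a * (a * b)⁻¹ = (a * b) ^ 2 * a := by
    simpa [zpow_ofNat] using h.dih.rpow_conj_rpows 1 0
  rcases K4.cases (h.lam x * h.lam y * h.lam w) with e1 | e1 | e1 | e1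
  exacts [k 1 (by rw [e1, map_one]) (.inl (by simp)), k a (by rw [e1, h.dw.lam_a]) (.inl (by simp)),
    k (a * b * a) (by rw [e1, map_mul, map_mul, h.dw.lam_a, h.dw.lam_b]; decide) (.inr (by
      rw [← c]; group)), k (a * b) (by rw [e1, map_mul, h.dw.lam_a, h.dw.lam_b]) (.inr c)]

theorem mem_B' {x y w : D} (hx : h.lam x = 1) (hy : h.lam y = 1) (hw : h.lam w = 1) :
    rr ρ x y w ∈ ⁅ρ.range, ρ.range⁆ := by
  have k : ∀ x, h.lam x = 1 → ∃ d, ⁅d, a⁆ = x := fun x hx => by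
    obtain ⟨j, rfl⟩ := mem_zpowers_iff.1 (h.dw.lam_eq_one.1 hx)
    refine ⟨(a * b) ^ j, ?_⟩
    rw [commutatorElement_def, mul_inv_eq_iff_eq_mul, ← zpow_natCast, ← zpow_mul]
    simpa using h.dih.rpow_conj_rpows j 0
  obtain ⟨c, rfl⟩ := k x hx
  obtain ⟨d, rfl⟩ := k y hy
  obtain ⟨f, rfl⟩ := k w hw
  have := mul_mem (mul_mem (commutator_mem_commutator (rr_mem ρ c 1 c) (rr_mem ρ a a 1))
    (commutator_mem_commutator (rr_mem ρ 1 d d) (rr_mem ρ a a 1)))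
    (commutator_mem_commutator (rr_mem ρ 1 f f) (rr_mem ρ a 1 a))
  rw [rr_comm₂ ρ (h.ok₁ rfl) (h.ok₂ rfl), rr_comm₂ ρ (h.ok₀ rfl) (h.ok₂ rfl),
    rr_comm₂ ρ (h.ok₀ rfl) (h.ok₁ rfl)] at this
  simpa [rr_mul ρ (h.ok_W hx) (h.ok₃ (map_one _) hy (map_one _)),
    rr_mul ρ (h.ok₃ hx hy (map_one _)) (h.ok₃ (map_one _) (map_one _) hw)] using this

theorem At_le_sup {p q r x y w : D} (hq : h.lam q = h.lam p) (hr : h.lam r = h.lam p)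
    (hx : h.lam x = h.lam p) (hy : h.lam y = h.lam p) (hw : h.lam w = h.lam p) :
    At e ρ p q r ≤ At e ρ x y w ⊔ ⁅ρ.range, ρ.range⁆ := by
  have k : ∀ {u v}, h.lam u = h.lam v → h.lam (u⁻¹ * v) = 1 := fun k => by simp [k]
  refine (closure_le _).2 ?_
  rintro _ (rfl | rfl | rfl | rfl)
  · exact mem_sup_left (subset_closure (by simp))
  · exact mem_sup_left (subset_closure (by simp))
  · simpa [rr_mul ρ (h.ok₂ (hx.trans hy.symm)) (h.ok₃ (k hx) (k (hy.trans hq.symm)) (map_one _))] using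
      mul_mem_sup (τ_At (e := e) (ρ := ρ) x y w) (h.mem_B' (k hx) (k (hy.trans hq.symm)) (map_one _))
  · simpa [rr_mul ρ (h.ok₀ (hy.trans hw.symm)) (h.ok₃ (map_one _) (k (hy.trans hq.symm))
      (k (hw.trans hr.symm)))] using mul_mem_sup (v_At (e := e) (ρ := ρ) x y w)
        (h.mem_B' (map_one _) (k (hy.trans hq.symm)) (k (hw.trans hr.symm)))

/-- `A(p, q, r) B'` depends only on the type -/
theorem At_sup {p q r : D} (hp : h.lam p = kα) (hq : h.lam q = kα) (hr : h.lam r = kα) :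
    At e ρ p q r ⊔ ⁅ρ.range, ρ.range⁆ = At e ρ a a a ⊔ ⁅ρ.range, ρ.range⁆ := by
  rw [← h.dw.lam_a] at hp hq hr
  exact le_antisymm (sup_le (h.At_le_sup (hq.trans hp.symm) (hr.trans hp.symm) hp.symm hp.symm hp.symm)
    le_sup_right) (sup_le (h.At_le_sup rfl rfl hp hq hr) le_sup_right)

theorem At_sup_ne : At e ρ a a a ⊔ ⁅ρ.range, ρ.range⁆ ≠ At e ρ b b b ⊔ ⁅ρ.range, ρ.range⁆ := by
  intro k
  obtain ⟨L, -, -, hL⟩ := h.exists_lv (zpowers kα)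
  have : At e ρ a a a ⊔ ⁅ρ.range, ρ.range⁆ ≤ L := by
    refine sup_le ((closure_le _).2 ?_) (commutator_le.2 fun g hg g' hg' => ?_)
    · rintro _ (rfl | rfl | rfl | rfl)
      exacts [(hL _ _ _ h.ok_z₁).1.2 (by simp), (hL _ _ _ h.ok_z₂).1.2 (by simp),
        (hL _ _ _ (h.ok₂ rfl)).1.2 (by simp [h.dw.lam_a]), (hL _ _ _ (h.ok₀ rfl)).1.2 (by simp)]
    · obtain ⟨x, y, w, m, rfl⟩ := mem_B.1 hg
      obtain ⟨p, q, r, m', rfl⟩ := mem_B.1 hg'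
      rw [rr_comm₂ ρ m m', (hL _ _ _ (h.ok₃ (h.lam_comm _ _) (h.lam_comm _ _) (h.lam_comm _ _))).1,
        h.lam_comm]
      exact one_mem _
  have := (hL _ _ _ (h.ok₂ rfl)).1.1 (k.ge.trans this (mem_sup_left (τ_At b b b)))
  rw [h.dw.lam_b, DW.mem_zp_α] at this
  exact absurd this (by decide)

theorem inf_At (h8 : 8 ∣ n) :
    At e ρ a a a ⊓ At e ρ ((a * b) ^ 2 * a) a a = Zt e ρ ⊔ zpowers (rr ρ 1 a a) ∧
      At e ρ a a a ⊓ At e ρ a a ((a * b) ^ 2 * a) = Zt e ρ ⊔ zpowers (rr ρ a a 1) := by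
  have l : h.lam ((a * b) ^ 2 * a) = h.lam a := by rw [map_mul, map_pow, pow_two, K4.sq, one_mul]
  have nc : a * ((a * b) ^ 2 * a) ≠ (a * b) ^ 2 * a * a := fun k => by
    have := h.dw.four_le
    rw [← mul_assoc, mul_left_inj, ← zpow_natCast, h.dih.s_mul, mul_left_inj, h.dih.eq_iff] at k
    have := Int.le_of_dvd (by norm_num) k.neg_right
    omega
  have e1 : rr ρ a a 1 * rr ρ 1 a a = rr ρ a 1 a := by
    rw [rr_mul ρ (h.ok₂ rfl) (h.ok₀ rfl), h.dw.aa, mul_one, one_mul]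
  have n1 : rr ρ a a 1 ∉ At e ρ ((a * b) ^ 2 * a) a a := fun m => by
    simpa [nc, h.dw.e_ne.symm] using (h.comm_rr (h.ok₂ rfl) (h.ok₂ l)).1 (mem_Cx.2 (DW.comm_of_sq
      (fun _ => h.sq_At (h.rf_of_lam h.dw.rf_a l) l.symm l.symm) m (τ_At _ _ _)))
  have n2 : rr ρ 1 a a ∉ At e ρ a a ((a * b) ^ 2 * a) := fun m => by
    simpa [nc, h.dw.e_ne.symm] using (h.comm_rr (h.ok₀ rfl) (h.ok₀ l.symm)).1 (mem_Cx.2 (DW.comm_of_sq
      (fun _ => h.sq_At h.dw.rf_a rfl l) m (v_At _ _ _)))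
  have m : ∀ {x u p q r}, x ∈ Zt e ρ → u * x ∈ At e ρ p q r → u ∈ At e ρ p q r := fun hx =>
    (mul_mem_cancel_right (h.Z_le_At _ _ _ hx)).1
  refine ⟨le_antisymm (fun g hg => ?_) (sup_le (le_inf (h.Z_le_At _ _ _) (h.Z_le_At _ _ _))
    (zpowers_le.2 ⟨v_At _ _ _, v_At _ _ _⟩)), le_antisymm (fun g hg => ?_) (sup_le
      (le_inf (h.Z_le_At _ _ _) (h.Z_le_At _ _ _)) (zpowers_le.2 ⟨τ_At _ _ _, τ_At _ _ _⟩))⟩ <;>
    obtain ⟨x, hx, rfl | rfl | rfl | rfl⟩ := (h.mem_At h.dw.rf_a rfl rfl).1 hg.1 <;>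
    rw [mem_inf] at hg
  exacts [mem_sup_left hx, mul_mem (mem_sup_right (mem_zpowers _)) (mem_sup_left hx),
    absurd (m hx hg.2) n1, absurd ((mul_mem_cancel_right (v_At _ _ _)).1 (e1.symm ▸ m hx hg.2)) n1,
    mem_sup_left hx, absurd (m hx hg.2) n2, mul_mem (mem_sup_right (mem_zpowers _)) (mem_sup_left hx),
    absurd ((mul_mem_cancel_left (τ_At _ _ _)).1 (e1.symm ▸ m hx hg.2)) n2]

/-- `N_B(A)` is transitive on each coset of `Z` in `A ∖ Z` -/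
theorem conj_coset {p q r : D} (hp : Rf a b p) (hq : h.lam q = h.lam p) (hr : h.lam r = h.lam p)
    {g x : G} (hg : g ∈ At e ρ p q r) (hn : g ∉ Zt e ρ) (hx : x ∈ Zt e ρ) :
    ∃ k ∈ ρ.range, k ∈ normalizer (At e ρ p q r : Set G) ∧ k * g * k⁻¹ = g * x := by
  have c : ∀ u y, u = 1 ∨ u = (a * b) ^ (n / 4) → ⁅u, y⁆ = 1 ∨ ⁅u, y⁆ = e := by
    rintro _ y (rfl | rfl)
    · simp
    · rw [← commutatorElement_inv, inv_eq_one, inv_eq_iff_eq_inv, h.dw.e_inv]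
      exact (h.comm_i y).elim (fun k => .inr k.2) fun k => .inl k.2
  have K : ∀ {u v w x y f s s' z}, (u, v, w) ∈ Dt D → u = 1 ∨ u = (a * b) ^ (n / 4) →
      v = 1 ∨ v = (a * b) ^ (n / 4) → w = 1 ∨ w = (a * b) ^ (n / 4) → z ∈ Zt e ρ →
      (x, y, f) ∈ Dt D → (1, s, s') ∈ Dt D → u * x * u⁻¹ = x ∧ v * y * v⁻¹ = y * s ∧ w * f * w⁻¹ = f * s' ∨
        u * x * u⁻¹ = x * e ∧ v * y * v⁻¹ * e = y * s ∧ w * f * w⁻¹ * e = f * s' → ∃ k ∈ ρ.range,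
        k ∈ normalizer (At e ρ p q r : Set G) ∧ k * (rr ρ x y f * z) * k⁻¹ = rr ρ x y f * z * rr ρ 1 s s' :=
    fun k hu hv hw hz k1 k2 e1 => ⟨_, rr_mem ρ _ _ _, mem_normalizer_fintype fun g hg => by
      obtain ⟨x, y, w, m, rfl⟩ := mem_B.1 (h.At_le _ _ _ hg)
      have := h.Z_le_At p q r (rr_comm₂ ρ k m ▸ h.mem_Z_of (c _ x hu) (c _ y hv) (c _ w hw))
      exact (mul_mem_cancel_right (inv_mem hg)).1 this, by
      rw [← conj_mul, mem_Cx'.1 (h.Z_comm hz (rr_mem ρ _ _ _)), mul_assoc _ _ (rr ρ 1 _ _),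
        ← mem_Cx.1 (h.Z_comm hz (rr_mem ρ 1 _ _)), ← mul_assoc, rr_mul ρ k1 k2, rr_conj ρ k, mul_one]
      rcases e1 with ⟨e1, e2, e3⟩ | ⟨e1, e2, e3⟩
      exacts [by rw [e1, e2, e3], by rw [← h.neg, e1, e2, e3, mul_assoc, h.dw.ee, mul_one]]⟩
  have ip := h.i_conj hp
  have iq := h.i_conj (h.rf_of_lam hp hq)
  have ir := h.i_conj (h.rf_of_lam hp hr)
  have ee : ∀ x, x * e * e = x := fun x => by rw [mul_assoc, h.dw.ee, mul_one]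
  have o0 := h.ok₀ (hq.trans hr.symm)
  have o1 := h.ok₁ hr.symm
  have o2 := h.ok₂ hq.symm
  have K0 := fun {x y f s s' z} => K (x := x) (y := y) (f := f) (s := s) (s' := s') (z := z)
    (h.ok₀ rfl) (.inl rfl) (.inr rfl) (.inr rfl)
  have K1 := fun {x y f s s' z} => K (x := x) (y := y) (f := f) (s := s) (s' := s') (z := z)
    (h.ok₁ rfl) (.inr rfl) (.inl rfl) (.inr rfl)
  have K2 := fun {x y f s s' z} => K (x := x) (y := y) (f := f) (s := s) (s' := s') (z := z)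
    (h.ok₂ rfl) (.inr rfl) (.inr rfl) (.inl rfl)
  obtain ⟨z, hz, rfl | rfl | rfl | rfl⟩ := (h.mem_At hp hq hr).1 hg
  · exact absurd hz hn
  all_goals
    rcases h.mem_Zt.1 hx with rfl | rfl | rfl | rfl
    · exact ⟨1, one_mem _, one_mem _, by simp⟩
  exacts [K0 hz o0 h.ok_z₀ (.inl (by simp [iq, ir])), K2 hz o0 h.ok_z₁ (.inl (by simp [iq])),
    K1 hz o0 h.ok_z₂ (.inl (by simp [ir])), K1 hz o2 h.ok_z₀ (.inr (by simp [ip])),
    K0 hz o2 h.ok_z₁ (.inl (by simp [iq])), K2 hz o2 h.ok_z₂ (.inr (by simp [ip, iq, ee])),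
    K2 hz o1 h.ok_z₀ (.inr (by simp [ip])), K1 hz o1 h.ok_z₁ (.inr (by simp [ip, ir, ee])),
    K0 hz o1 h.ok_z₂ (.inl (by simp [ir]))]

theorem eight {E : Subgroup G} (hZ : Zt e ρ ≤ E) {x y w : D} (h1 : (x, y, w) ∈ Dt D)
    (hx : rr ρ x y w ∈ E) (hr : Rf a b x ∨ Rf a b y ∨ Rf a b w) : 8 ≤ Nat.card E := by
  have k : (Zt e ρ).relIndex E ≠ 1 := fun m => by
    have := (h.mem_Z_iff h1).1 (relIndex_eq_one.1 m hx)
    rcases hr with hr | hr | hr <;> have := h.rf_s hr <;> tauto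
  have : (Zt e ρ).relIndex E ≠ 0 := index_ne_zero_of_finite
  rw [← card_mul_relIndex' hZ, h.card_Z]
  omega

end TW

end CfsgLib.GHC
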