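import Mathlib
import Cfsg.Agent.Lib.GHC.TW
import Cfsg.Agent.Lib.GHC.ModS

/-! Monomial matrices for package MODT.  See `plans/GHC.md`, part 3. -/

set_option autoImplicit false

namespace CfsgLib.GHC.MT

open Subgroup Matrix MS
open scoped MatrixGroups

variable {F : Type*} [Field F]

theorem π_eq' {a b : SL(4, F)} {c : F} (h : a.1 = c • b.1) : π F a = π F b := by
  have h1 : c ^ 4 = 1 := by
    have := congrArg det h
    rw [a.2, det_smul, b.2, Fintype.card_fin, mul_one] at this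
    exact this.symm
  let z : SL(4, F) := ⟨c • 1, by rw [det_smul, det_one, Fintype.card_fin, mul_one, h1]⟩
  rw [show a = z * b from Subtype.ext (h.trans (smul_one_mul _ _).symm), map_mul,
    show π F z = 1 from (QuotientGroup.eq_one_iff _).2 (mem_center_iff.2 fun g =>
      Subtype.ext ((mul_smul_one _ _).trans (smul_one_mul _ _).symm)), one_mul]

theorem ne_zero_of {a : SL(4, F)} {c : F} {M : Matrix (Fin 4) (Fin 4) F} (h : a.1 = c • M) :
    c ≠ 0 := fun e => by
  have := a.2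
  rw [h, e, zero_smul, det_zero] at this
  exact zero_ne_one this

/-- projective representations -/
theorem exists_proj {Γ : Type*} [Group Γ] (N : Γ → Matrix (Fin 4) (Fin 4) F)
    (h1 : ∀ p, ∃ (g : SL(4, F)) (c : F), g.1 = c • N p)
    (h2 : ∀ p q, ∃ μ : F, N p * N q = μ • N (p * q)) :
    ∃ ρ : Γ →* PSL(4, F), ∀ p (g : SL(4, F)) (c : F), g.1 = c • N p → ρ p = π F g := by
  choose s c hs using h1
  have key : ∀ p (g : SL(4, F)) (d : F), g.1 = d • N p → π F (s p) = π F g := fun p g d e =>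
    π_eq' (c := c p * d⁻¹) (by
      rw [hs, e, smul_smul, inv_mul_cancel_right₀ (ne_zero_of e)])
  refine ⟨MonoidHom.mk' (fun p => π F (s p)) fun p q => ?_, key⟩
  obtain ⟨μ, e⟩ := h2 p q
  refine (key _ (s p * s q) (c p * c q * μ) ?_).trans (map_mul _ _ _)
  change (s p).1 * (s q).1 = _
  rw [hs, hs, smul_mul_smul_comm, e, smul_smul]

/-- the four signed permutation matrices -/
def Pz : Bool → Bool → Matrix (Fin 4) (Fin 4) ℤ
  | false, false => !![1, 0, 0, 0; 0, 1, 0, 0; 0, 0, 1, 0; 0, 0, 0, 1]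
  | false, true => !![0, 1, 0, 0; 1, 0, 0, 0; 0, 0, 0, 1; 0, 0, 1, 0]
  | true, true => !![0, 0, 0, 1; 0, 0, -1, 0; 0, 1, 0, 0; -1, 0, 0, 0]
  | true, false => !![0, 0, -1, 0; 0, 0, 0, 1; -1, 0, 0, 0; 0, 1, 0, 0]

theorem Pz_mul : ∀ a b c d, Pz a b * Pz c d = Pz (xor a c) (xor b d) ∨
    Pz a b * Pz c d = -Pz (xor a c) (xor b d) := by decide +kernel

theorem Pz_det : ∀ a b, (Pz a b).det = 1 := by decide +kernel

/-- the same matrices over `F` -/
def Pm (F : Type*) [Field F] (a b : Bool) : Matrix (Fin 4) (Fin 4) F :=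
  (Int.castRingHom F).mapMatrix (Pz a b)

theorem Pm_mul (a b c d : Bool) : ∃ μ : F, Pm F a b * Pm F c d = μ • Pm F (xor a c) (xor b d) := by
  rw [Pm, Pm, ← map_mul]
  rcases Pz_mul a b c d with e | e <;> rw [e]
  exacts [⟨1, (one_smul _ _).symm⟩, ⟨-1, by rw [map_neg, neg_one_smul]; rfl⟩]

theorem Pm_det (a b : Bool) : (Pm F a b).det = 1 := by
  rw [Pm, ← RingHom.map_det, Pz_det, map_one]

/-- the torus -/
def Δ (u v w : F) : Matrix (Fin 4) (Fin 4) F := diagonal ![u * v * w, u, v, w]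

theorem Δ_mul (u v w u' v' w' : F) : Δ u v w * Δ u' v' w' = Δ (u * u') (v * v') (w * w') := by
  rw [Δ, Δ, Δ, diagonal_mul_diagonal]
  congr 1
  ext i; fin_cases i <;> simp; ring

theorem Δ_det (u v w : F) : (Δ u v w).det = (u * v * w) ^ 2 := by
  rw [Δ, det_diagonal, Fin.prod_univ_four]; simp; ring

/-- inversion -/
def fl (b : Bool) (u : F) : F := cond b u⁻¹ u

theorem Δ_Pm {u v w : F} (hu : u ≠ 0) (hv : v ≠ 0) (hw : w ≠ 0) (a b : Bool) :
    ∃ μ : F, Δ u v w * Pm F a b = μ • (Pm F a b * Δ (fl a u) (fl b v) (fl (xor a b) w)) := by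
  cases a <;> cases b
  · refine ⟨1, ?_⟩
    ext i j
    rw [Δ, Δ, Matrix.smul_apply, diagonal_mul, mul_diagonal]
    fin_cases i <;> fin_cases j <;> simp [Pm, Pz, fl]
  · refine ⟨v * w, ?_⟩
    ext i j
    rw [Δ, Δ, Matrix.smul_apply, diagonal_mul, mul_diagonal]
    fin_cases i <;> fin_cases j <;> simp [Pm, Pz, fl] <;> field_simp
  · refine ⟨u * w, ?_⟩
    ext i j
    rw [Δ, Δ, Matrix.smul_apply, diagonal_mul, mul_diagonal]
    fin_cases i <;> fin_cases j <;> simp [Pm, Pz, fl] <;> field_simp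
  · refine ⟨u * v, ?_⟩
    ext i j
    rw [Δ, Δ, Matrix.smul_apply, diagonal_mul, mul_diagonal]
    fin_cases i <;> fin_cases j <;> simp [Pm, Pz, fl] <;> field_simp

/-- the matrix of `t` -/
def tm (ι : F) : Matrix (Fin 4) (Fin 4) F := !![ι, 0, 0, 0; 0, -ι, 0, 0; 0, 0, 0, 1; 0, 0, -1, 0]

theorem tm_sq {ι : F} (h : ι * ι = -1) : tm ι * tm ι = -1 := by
  ext i j
  fin_cases i <;> fin_cases j <;> simp [tm, mul_apply, Fin.sum_univ_four, h]

theorem tm_det {ι : F} (h : ι * ι = -1) : (tm ι).det = 1 := by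
  simp [tm, det_succ_row_zero, Fin.sum_univ_succ, Fin.succAbove, h]

theorem Δ_tm (ι u v w : F) : tm ι * Δ u v w = Δ u w v * tm ι := by
  ext i j
  rw [Δ, Δ, diagonal_mul, mul_diagonal]
  fin_cases i <;> fin_cases j <;> simp [tm] <;> ring

theorem tm_Pm {ι : F} (h : ι * ι = -1) (a b : Bool) :
    ∃ μ : F, tm ι * Pm F a b = μ • (Pm F a (xor a b) * tm ι) := by
  cases a <;> cases b
  · refine ⟨1, ?_⟩
    ext i j
    fin_cases i <;> fin_cases j <;> simp [tm, Pm, Pz, mul_apply, Fin.sum_univ_four]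
  · refine ⟨-1, ?_⟩
    ext i j
    fin_cases i <;> fin_cases j <;> simp [tm, Pm, Pz, mul_apply, Fin.sum_univ_four]
  · refine ⟨ι, ?_⟩
    ext i j
    fin_cases i <;> fin_cases j <;> simp [tm, Pm, Pz, mul_apply, Fin.sum_univ_four, h]
  · refine ⟨-ι, ?_⟩
    ext i j
    fin_cases i <;> fin_cases j <;> simp [tm, Pm, Pz, mul_apply, Fin.sum_univ_four, h]

theorem Pm_ff : Pm F false false = 1 := by
  ext i j
  fin_cases i <;> fin_cases j <;> simp [Pm, Pz]

theorem ff_of_ne {a b : Bool} {u v w : F} (h : (Pm F a b * Δ u v w) 0 0 ≠ 0) :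
    a = false ∧ b = false := by
  rw [Δ, mul_diagonal] at h
  cases a <;> cases b <;> simp [Pm, Pz] at h ⊢

section Dih

open DihedralGroup

variable {n : ℕ}

/-- reflection or rotation -/
def ep : DihedralGroup n → Bool
  | r _ => false
  | sr _ => true

/-- the exponent -/
def ex : DihedralGroup n → ZMod n
  | r i => i
  | sr i => i

theorem ep_mul (x y : DihedralGroup n) : ep (x * y) = xor (ep x) (ep y) := by
  cases x <;> cases y <;> rfl

theorem ex_mul (x y : DihedralGroup n) : ex (x * y) = cond (ep y) (-ex x) (ex x) + ex y := by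
  cases x <;> cases y <;> simp [ex, ep, sub_eq_neg_add]

theorem of_Dt {D A : Type*} [Group D] [CommGroup A] (f : D →* A) {x y w : D}
    (h : (x, y, w) ∈ Dt D) : f x * (f y * f w) = 1 := by
  have := congrArg (Abelianization.lift f) (mem_Dt.1 h)
  simpa using this

theorem ep_Dt {x y w : DihedralGroup n} (h : (x, y, w) ∈ Dt (DihedralGroup n)) :
    ep w = xor (ep x) (ep y) := by
  have := of_Dt (MonoidHom.mk' (fun x => if ep x then (-1 : ℤˣ) else 1) fun x y => by
    rw [ep_mul]; cases ep x <;> cases ep y <;> simp) h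
  simp only [MonoidHom.mk'_apply] at this
  revert this
  cases ep x <;> cases ep y <;> cases ep w <;> decide

theorem ex_Dt (h2 : 2 ∣ n) {x y w : DihedralGroup n} (h : (x, y, w) ∈ Dt (DihedralGroup n)) :
    ∃ m, ex x + ex y + ex w = m + m := by
  have := of_Dt (MonoidHom.mk' (fun x => Multiplicative.ofAdd (ZMod.castHom h2 (ZMod 2) (ex x)))
    fun x y => by
      rw [ex_mul, map_add, ofAdd_add]
      cases ep y
      · rfl
      · rw [cond_true, map_neg, ZMod.neg_eq_self_mod_two]) h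
  simp only [MonoidHom.mk'_apply, ← ofAdd_add, ← map_add, ofAdd_eq_one, ← add_assoc] at this
  obtain ⟨k, hk⟩ := ZMod.intCast_surjective (ex x + ex y + ex w)
  rw [← hk, map_intCast, ZMod.intCast_zmod_eq_zero_iff_dvd] at this
  obtain ⟨m, rfl⟩ := this
  exact ⟨m, by rw [← hk]; push_cast; ring⟩

theorem isDih [NeZero n] : CfsgLib.DihSyl.IsDih (⊤ : Subgroup (DihedralGroup n)) n (sr 0 * sr 1) (sr 0) := by
  have e : (sr 0 * sr 1 : DihedralGroup n) = r 1 := by simp
  rw [e]
  refine ⟨orderOf_r_one, sr_mul_self _, by simp, fun ⟨i, h⟩ => ?_, fun g => ⟨fun _ => ?_, fun _ => trivial⟩⟩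
  · simp [r_one_zpow] at h
  · rcases g with i | i
    · obtain ⟨j, rfl⟩ := ZMod.intCast_surjective i
      exact ⟨j, .inl (r_one_zpow j).symm⟩
    · obtain ⟨j, rfl⟩ := ZMod.intCast_surjective i
      exact ⟨-j, .inr (by simp [r_one_zpow])⟩

end Dih

end CfsgLib.GHC.MT
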