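import Mathlib
import Cfsg.Agent.Lib.GHC.Mod2a
import Cfsg.Agent.Lib.GHC.ModS
import Cfsg.Agent.Lib.GHC.ModTa

/-! Package MODT: the Sylow 2-subgroups of `PSL₄(q)` and the centraliser of `diag(-1, -1, 1, 1)`.  See `plans/GHC.md`, part 3. -/

set_option autoImplicit false
set_option linter.unusedSectionVars false

namespace CfsgLib.GHC

open Subgroup Cfsg CfsgLib.W2 CfsgLib.Tech CfsgLib.PComp CfsgLib.Abel2 CfsgLib.GHA CfsgLib.DihSyl
  CfsgLib.GW.Cor
open scoped MatrixGroups commutatorElement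

universe u

variable {F : Type*} [Field F] [Fintype F] {d : SL(4, F)}

namespace MT

open MS Matrix

section
variable {G : Type u} [Group G] [Finite G] {D : Type*} [Group D] [Finite D] {n m : ℕ} {a b e : D}
  {t : G}

theorem two_prod {A B : Type*} [Group A] [Group B] [Finite A] [Finite B] (hA : IsPGroup 2 A)
    (hB : IsPGroup 2 B) : IsPGroup 2 (A × B) := by
  obtain ⟨i, hi⟩ := IsPGroup.iff_card.1 hA
  obtain ⟨j, hj⟩ := IsPGroup.iff_card.1 hB
  exact IsPGroup.of_card (n := i + j) (by rw [Nat.card_prod, hi, hj, pow_add])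

theorem tw_of_card {ρ : Dt D →* G} (pow : ∃ k, n = 2 ^ (k + 2))
    (dih : IsDih (⊤ : Subgroup D) n (a * b) a) (he : e = (a * b) ^ (n / 2)) (hD : IsPGroup 2 D)
    (ker : ∀ p : Dt D, ρ p = 1 ↔ p.1 = 1 ∨ p.1 = (e, e, e)) (tt : t * t = 1)
    (sw : ∀ x y w, t * rr ρ x y w * t⁻¹ = rr ρ x w y) (nm : t ∉ ρ.range) (hm : Odd m)
    (hG : Nat.card G = 2 * n ^ 3 * m) : TW n a b e ρ t := by
  have two : IsPGroup 2 (St ρ t) := by
    refine IsPGroup.to_sup_of_normal_left' ?_ (isPGroup_zpowers_of_pow (k := 1) (by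
      rw [pow_one, pow_two, tt])) (zpowers_le.2 (mem_normalizer_of_forall fun g hg => ?_))
    · exact ((two_prod hD (two_prod hD hD)).to_subgroup _).of_surjective _ ρ.rangeRestrict_surjective
    · obtain ⟨x, y, w, -, rfl⟩ := mem_B.1 hg
      rw [sw]; exact rr_mem _ _ _ _
  have tm : t ∈ St ρ t := mem_sup_right (mem_zpowers t)
  let ρ' := ρ.codRestrict (St ρ t) fun p => mem_sup_left ⟨p, rfl⟩
  have e1 : ∀ x y w, ((rr ρ' x y w : St ρ t) : G) = rr ρ x y w := fun x y w =>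
    (rr_comp (St ρ t).subtype ρ' x y w).symm
  have top : St ρ' ⟨t, tm⟩ = ⊤ := by
    refine map_injective (St ρ t).subtype_injective ?_
    rw [Subgroup.map_sup, ← MonoidHom.range_comp, MonoidHom.map_zpowers, ← MonoidHom.range_eq_map,
      range_subtype]
    rfl
  have hw : TW n a b e ρ' ⟨t, tm⟩ :=
    ⟨pow, dih, he, fun p => Subtype.ext_iff.trans (ker p), Subtype.ext tt,
      fun x y w => Subtype.ext (by rw [e1, ← sw, ← e1]; rfl),
      fun ⟨q, hq⟩ => nm ⟨q, congrArg Subtype.val hq⟩,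
      by rw [top]; exact ⟨le_rfl, two.of_equiv topEquiv.symm, by rw [relIndex_self]; decide⟩⟩
  have c := hw.card_S
  rw [top, card_top] at c
  refine ⟨pow, dih, he, ker, tt, sw, nm, le_top, two, ?_⟩
  have := card_mul_index (St ρ t)
  obtain ⟨k, rfl⟩ := pow
  rw [c, hG, mul_right_inj' (by positivity)] at this
  rw [relIndex_top_right, this]; exact hm.not_two_dvd_nat

theorem dw_of_card {ρ : D × D →* G} (pow : ∃ k, n = 2 ^ (k + 2))
    (dih : IsDih (⊤ : Subgroup D) n (a * b) a) (he : e = (a * b) ^ (n / 2)) (hD : IsPGroup 2 D)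
    (inj : Function.Injective ρ) (tt : t * t = 1)
    (sw : ∀ x y, t * ρ (x, y) * t⁻¹ = ρ (y, x)) (nm : t ∉ ρ.range) (hm : Odd m)
    (hG : Nat.card G = 8 * n ^ 2 * m) : DW n a b e ρ t := by
  have two : IsPGroup 2 (Sw ρ t) := by
    refine IsPGroup.to_sup_of_normal_left' ?_ (isPGroup_zpowers_of_pow (k := 1) (by
      rw [pow_one, pow_two, tt])) (zpowers_le.2 (mem_normalizer_of_forall ?_))
    · exact (two_prod hD hD).of_surjective _ ρ.rangeRestrict_surjective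
    · rintro _ ⟨⟨x, y⟩, rfl⟩; exact ⟨_, (sw x y).symm⟩
  let ρ' := ρ.codRestrict (Sw ρ t) DW.pp_mem
  have top : Sw ρ' ⟨t, DW.t_mem⟩ = ⊤ := by
    refine map_injective (Sw ρ t).subtype_injective ?_
    rw [Subgroup.map_sup, ← MonoidHom.range_comp, MonoidHom.map_zpowers, ← MonoidHom.range_eq_map,
      range_subtype]
    rfl
  have hw : DW n a b e ρ' ⟨t, DW.t_mem⟩ :=
    ⟨pow, dih, he, fun p q e1 => inj (congrArg Subtype.val e1), Subtype.ext tt,
      fun x y => Subtype.ext (sw x y), fun ⟨q, hq⟩ => nm ⟨q, congrArg Subtype.val hq⟩,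
      by rw [top]; exact ⟨le_rfl, two.of_equiv topEquiv.symm, by rw [relIndex_self]; decide⟩⟩
  have c := hw.card_S
  rw [top, card_top] at c
  refine ⟨pow, dih, he, inj, tt, sw, nm, le_top, two, ?_⟩
  have := card_mul_index (Sw ρ t)
  obtain ⟨k, rfl⟩ := pow
  rw [c, hG, mul_right_inj' (by positivity)] at this
  rw [relIndex_top_right, this]; exact hm.not_two_dvd_nat

end

theorem two_D (k : ℕ) : IsPGroup 2 (DihedralGroup (2 ^ (k + 2))) :=
  IsPGroup.of_card (n := k + 3) (by rw [DihedralGroup.nat_card]; ring)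

theorem card_psl1 (hF : Fintype.card F % 4 = 1) {n m : ℕ} (hm : Odd m)
    (e : Fintype.card F = n * m + 1) :
    ∃ l, Odd l ∧ Nat.card PSL(4, F) = 2 * n ^ 3 * l := by
  have := Cfsg.Agent.S0243.result (F := F) rfl 4 (by norm_num)
  obtain ⟨j, hj⟩ : ∃ j, Fintype.card F = 4 * j + 1 := ⟨Fintype.card F / 4, by omega⟩
  have j0 : 0 < j := by have := Fintype.one_lt_card (α := F); omega
  generalize Nat.card (ProjectiveSpecialLinearGroup (Fin 4) F) = N at this ⊢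
  rw [hj] at this e
  refine ⟨(4 * j + 1) ^ 6 * (2 * j + 1) ^ 2 * m ^ 3 * (2 * (4 * j ^ 2 + 2 * j) + 1) *
    (2 * (8 * j ^ 2 + 6 * j + 1) + 1), ?_, ?_⟩
  · exact ((((Odd.pow ⟨2 * j, by ring⟩).mul (Odd.pow ⟨j, rfl⟩)).mul hm.pow).mul ⟨_, rfl⟩).mul
      ⟨_, rfl⟩
  have g : Nat.gcd 4 (4 * j + 1 - 1) = 4 := by
    rw [Nat.add_sub_cancel, Nat.gcd_mul_right_right]
  have le : ∀ i ≤ 4, (4 * j + 1) ^ i ≤ (4 * j + 1) ^ 4 := fun i hi =>
    Nat.pow_le_pow_right (by omega) hi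
  rw [g, Fin.prod_univ_four, Nat.add_sub_cancel] at this
  refine Nat.eq_of_mul_eq_mul_left (n := 4 * (4 * j)) (by omega) ?_
  rw [mul_assoc, this]
  simp only [Fin.val_zero, Fin.val_one, Fin.val_two, show ((3 : Fin 4) : ℕ) = 3 from rfl]
  zify [le 0 (by norm_num), le 1 (by norm_num), le 2 (by norm_num), le 3 (by norm_num)] at e ⊢
  linear_combination (4 * j + 1) ^ 6 * (4 * j) * 8 * (2 * j + 1) ^ 2 *
    (8 * j ^ 2 + 4 * j + 1) * (16 * j ^ 2 + 12 * j + 3) *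
      ((4 * j) ^ 2 + 4 * j * (n * m) + (n * m) ^ 2) * e

theorem d_eq (hd : d.1 = diagonal ![-1, -1, 1, 1]) : d.1 = bd (-1) 1 := by
  rw [hd]
  ext i j
  fin_cases i <;> fin_cases j <;> simp [bd, finSumFinEquiv, Fin.addCases, fromBlocks] <;> rfl

theorem bd_mem_Cx (hd : d.1 = diagonal ![-1, -1, 1, 1]) {g : SL(4, F)}
    {x y : Matrix (Fin 2) (Fin 2) F} (hg : g.1 = bd x y) : π F g ∈ Cx (π F d) := by
  rw [mem_Cx, ← map_mul, ← map_mul]
  refine π_eq (Or.inl ?_)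
  change g.1 * d.1 = d.1 * g.1
  rw [hg, d_eq hd, bd_mul, bd_mul]; simp

theorem bt_d (hd : d.1 = diagonal ![-1, -1, 1, 1]) : bt F * d.1 = -(d.1 * bt F) := by
  rw [d_eq hd, bt_bd, ← neg_mul, ← bd_neg, neg_neg]

/-- the block swap -/
def bS (F : Type*) [Field F] : SL(4, F) := ⟨bt F, bt_det⟩

theorem bt_mem_Cx (hd : d.1 = diagonal ![-1, -1, 1, 1]) : π F (bS F) ∈ Cx (π F d) := by
  rw [mem_Cx, ← map_mul, ← map_mul]
  exact π_eq (Or.inr (bt_d hd))

theorem psl_dr (hF : Fintype.card F % 4 = 3) (hd : d.1 = diagonal ![-1, -1, 1, 1]) :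
    ∃ k l, Odd l ∧ Nat.card PSL(4, F) = 8 * (2 ^ (k + 2)) ^ 2 * l ∧ ∃ r s t : PSL(4, F),
      DR k r s t ∧ r ∈ Cx (π F d) ∧ s ∈ Cx (π F d) ∧ t ∈ Cx (π F d) := by
  obtain ⟨k, m, hm, hq, ω, y, dω, dy, yy, pω, hω⟩ := exists_omega hF
  obtain ⟨l, hl, hN⟩ := card_psl hF hm hq
  have h2 := two_ne_zero_of_odd (Nat.odd_iff.2 (by omega) : Odd (Fintype.card F))
  obtain ⟨v, hv⟩ : ∃ v, v = y * ω * y := ⟨_, rfl⟩
  have e1 : ω * v = 1 := by rw [hv, ← mul_assoc, ← mul_assoc, hω, neg_mul, yy, neg_neg]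
  have e2 : v * ω = 1 := mul_eq_one_comm.1 e1
  have e3 : y * v * y = ω := by
    rw [hv, ← mul_assoc, ← mul_assoc, yy, mul_assoc, yy]; simp
  have e4 : y * ω = -v * y := by rw [hv, neg_mul, mul_assoc, yy]; simp
  have pv : ∀ n, ω ^ n * v ^ n = 1 := fun n => by
    rw [← (show Commute ω v from e1.trans e2.symm).mul_pow, e1, one_pow]
  obtain ⟨J, hJ⟩ : ∃ J, J = ω ^ 2 ^ (k + 1) := ⟨_, rfl⟩
  have ev : Even (2 ^ (k + 1)) := Nat.even_pow.2 ⟨even_two, by omega⟩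
  have JJ : J * J = -1 := by rw [hJ, ← pow_two, ← pow_mul, ← pow_succ, pω]
  have vJ : v ^ 2 ^ (k + 1) = -J := by
    have := congrArg (J * ·) (hJ ▸ pv (2 ^ (k + 1)))
    simp only [← mul_assoc, JJ, neg_mul, one_mul, mul_one] at this
    exact neg_eq_iff_eq_neg.1 this
  have yJ : y * J = -(J * y) := by
    rw [← neg_mul, ← vJ, ← ev.neg_pow, hJ]; exact (SemiconjBy.pow_right e4 _).eq
  have cJ : J * ω = ω * J := hJ ▸ ((Commute.refl ω).pow_left _).eq
  have dJ : J.det = 1 := by rw [hJ, det_pow, dω, ev.neg_one_pow]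
  let R : SL(4, F) := ⟨bd ω v, by rw [bd_det, hv, det_mul, det_mul, dy, dω]; ring⟩
  let S : SL(4, F) := bS F
  let U : SL(4, F) := ⟨bd J y, by rw [bd_det, dJ, dy, mul_one]⟩
  have sb : ∀ x x' : Matrix (Fin 2) (Fin 2) F, bt F * bd x x' * bt F = bd x' x := fun x x' => by
    rw [bt_bd, mul_assoc, bt_bt, mul_one]
  have pR : ∀ n, (R ^ n).1 = bd (ω ^ n) (v ^ n) := fun n =>
    (Matrix.SpecialLinearGroup.coe_pow R n).trans (bd_pow n)
  refine ⟨k, l, hl, hN, π F R, π F S, π F U, ⟨?_, ?_, ?_, ?_, ?_, ?_, ?_, fun h => ?_⟩,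
    bd_mem_Cx hd rfl, bt_mem_Cx hd, bd_mem_Cx hd rfl⟩
  · rw [← map_pow, ← map_one (π F)]
    refine π_eq (Or.inr ((pR _).trans ?_))
    rw [pω, pow_succ 2 (k + 1), pow_mul, vJ, pow_two, neg_mul_neg, JJ, bd_neg, bd_one]; rfl
  · exact (map_mul _ _ _).symm.trans ((π_eq (Or.inl bt_bt)).trans (map_one _))
  · simp only [← map_mul]
    refine (π_eq (b := 1) (Or.inl ?_)).trans (map_one _)
    show bt F * bd ω v * bt F * bd ω v = 1
    rw [sb, bd_mul, e1, e2, bd_one]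
  · refine (map_mul _ _ _).symm.trans ((π_eq (b := 1) (Or.inr ?_)).trans (map_one _))
    show bd J y * bd J y = -1
    rw [bd_mul, JJ, yy, bd_neg, bd_one]
  · simp only [← map_mul]
    refine π_eq (Or.inl ?_)
    show bd ω v * bd J y * bd ω v * bd J y = bd J y * bd ω v * bd J y * bd ω v
    simp only [bd_mul]
    rw [e3, e1, mul_assoc v, mul_assoc v, e3, e2, cJ, mul_assoc _ ω J, mul_assoc _ J ω, cJ]
  · simp only [← map_mul]
    refine π_eq (Or.inr ?_)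
    show bt F * bd J y * bd ω v * bd J y = -(bd J y * bd ω v * bd J y * bt F)
    rw [mul_assoc, mul_assoc, ← mul_assoc (bd J y), bd_mul, bd_mul, e3, cJ, mul_assoc ω, JJ, bt_bd,
      ← neg_mul, ← bd_neg, mul_neg_one, neg_neg]
  · simp only [← map_mul]
    refine π_eq (Or.inr ?_)
    show bt F * bd J y * bt F * bd J y = -(bd J y * bt F * bd J y * bt F)
    rw [mul_assoc (bd J y), mul_assoc (bd J y), sb, bd_mul, bd_mul, ← bd_neg, yJ, neg_neg]
  · simp only [← map_pow, ← map_mul] at h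
    obtain ⟨c, hc⟩ := of_π_eq h
    change bd J y * (R ^ _).1 = c • ((R ^ _).1 * bd J y) at hc
    rw [pR, ← hJ, vJ, bd_mul, bd_mul, ← bd_smul, JJ] at hc
    obtain ⟨c1, c2⟩ := bd_inj hc
    obtain rfl : c = 1 := by simpa using (congrFun (congrFun c1 0) 0).symm
    rw [one_smul, mul_neg, yJ, neg_neg, neg_mul, eq_neg_iff_add_eq_zero, ← two_smul F,
      smul_eq_zero_iff_right h2] at c2
    simpa [dJ, dy] using congrArg det c2

theorem dd (hd : d.1 = diagonal ![-1, -1, 1, 1]) : d.1 * d.1 = 1 := by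
  rw [d_eq hd, bd_mul, neg_mul_neg, one_mul, bd_one]

theorem d_ne (h2 : (2 : F) ≠ 0) (hd : d.1 = diagonal ![-1, -1, 1, 1]) : π F d ≠ 1 := fun e => by
  obtain ⟨c, hc⟩ := of_π_eq (e.symm : π F 1 = π F d)
  have h0 := congrFun (congrFun hc 0) 0
  have h1 := congrFun (congrFun hc 2) 2
  rw [hd] at h0 h1
  simp at h0 h1
  exact h2 (by linear_combination h1 - h0)

theorem comm_or (hd : d.1 = diagonal ![-1, -1, 1, 1]) {g : SL(4, F)} (hg : π F g ∈ Cx (π F d)) :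
    g.1 * d.1 = d.1 * g.1 ∨ g.1 * d.1 = -(d.1 * g.1) := by
  rw [mem_Cx, ← map_mul, ← map_mul] at hg
  obtain ⟨c, hc⟩ := of_π_eq hg.symm
  change g.1 * d.1 = c • (d.1 * g.1) at hc
  have h1 : g.1 = (c * c) • g.1 := by
    calc g.1 = g.1 * d.1 * d.1 := by rw [mul_assoc, dd hd, mul_one]
      _ = c • (d.1 * c • (d.1 * g.1)) := by rw [← hc, hc, smul_mul_assoc, mul_assoc, hc]
      _ = _ := by rw [mul_smul_comm, ← mul_assoc, dd hd, one_mul, smul_smul]
  have h2 : c * c = 1 := by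
    by_contra hn
    have h3 : (1 - c * c) • g.1 = 0 := by rw [sub_smul, one_smul, ← h1, sub_self]
    have := g.2
    rw [(smul_eq_zero_iff_right (sub_ne_zero.2 (Ne.symm hn))).1 h3, det_zero] at this
    exact zero_ne_one this
  rcases mul_self_eq_one_iff.1 h2 with rfl | rfl
  exacts [.inl (hc.trans (one_smul _ _)), .inr (hc.trans (neg_one_smul _ _))]

theorem exists_bd (h2 : (2 : F) ≠ 0) (hd : d.1 = diagonal ![-1, -1, 1, 1])
    {g : Matrix (Fin 4) (Fin 4) F} (hg : g * d.1 = d.1 * g) : ∃ x y, g = bd x y := by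
  obtain ⟨M, rfl⟩ := (reindexAlgEquiv F F (finSumFinEquiv (m := 2) (n := 2))).surjective g
  rw [d_eq hd, bd, ← map_mul, ← map_mul, EmbeddingLike.apply_eq_iff_eq, ← fromBlocks_toBlocks M,
    fromBlocks_multiply, fromBlocks_multiply, fromBlocks_inj] at hg
  obtain ⟨-, h3, h4, -⟩ := hg
  simp only [Matrix.mul_zero, Matrix.mul_one, Matrix.zero_mul, Matrix.one_mul, zero_add, add_zero,
    Matrix.mul_neg, Matrix.neg_mul] at h3 h4
  rw [eq_neg_iff_add_eq_zero, ← two_smul F, smul_eq_zero_iff_right h2] at h3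
  rw [neg_eq_iff_add_eq_zero, ← two_smul F, smul_eq_zero_iff_right h2] at h4
  exact ⟨M.toBlocks₁₁, M.toBlocks₂₂, by
    conv_lhs => rw [← fromBlocks_toBlocks M, h3, h4]
    rfl⟩

/-- block diagonal matrices -/
def bh (F : Type*) [Field F] : SL(2, F) × SL(2, F) →* SL(4, F) :=
  MonoidHom.mk' (fun p => ⟨bd p.1.1 p.2.1, by rw [bd_det, p.1.2, p.2.2, mul_one]⟩)
    fun _ _ => Subtype.ext bd_mul.symm

theorem not_wr {m : ℕ} (hm : m ≤ 11) (φ : SL(2, ZMod 3) × SL(2, ZMod 3) →* Equiv.Perm (Fin m))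
    (h1 : φ (-1, -1) = 1) (h2 : φ (-1, 1) ≠ 1) : False := by
  obtain ⟨z, hz⟩ : ∃ z, z = φ (-1, 1) := ⟨_, rfl⟩
  have hz' : z = φ (1, -1) := by
    rw [hz, ← mul_one (φ (1, -1)), ← h1, ← map_mul]; simp
  have zc : ∀ p, φ p * z = z * φ p := fun p => by
    rw [hz, ← map_mul, ← map_mul]; congr 1; ext1 <;> simp
  have mem : ∀ p ω, φ p ω ∈ z.support ↔ ω ∈ z.support := fun p ω => by
    rw [Equiv.Perm.mem_support, Equiv.Perm.mem_support, ← Equiv.Perm.mul_apply, ← zc,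
      Equiv.Perm.mul_apply, (φ p).injective.ne_iff]
  obtain ⟨q, hq⟩ : ∃ q : Fin 8 → SL(2, ZMod 3), ∀ a b, a = b ∨ (q a)⁻¹ * q b = -1 ∨
      (q a)⁻¹ * q b * ((q a)⁻¹ * q b) = -1 :=
    ⟨![⟨!![1, 0; 0, 1], by decide⟩, ⟨!![2, 0; 0, 2], by decide⟩, ⟨!![0, 1; 2, 0], by decide⟩,
      ⟨!![0, 2; 1, 0], by decide⟩, ⟨!![1, 1; 1, 2], by decide⟩, ⟨!![2, 2; 2, 1], by decide⟩,
      ⟨!![1, 2; 2, 2], by decide⟩, ⟨!![2, 1; 1, 1], by decide⟩], by decide +kernel⟩
  have mv : ∀ a b ω ω', φ (1, q a) ω = φ (1, q b) ω' → φ (1, (q a)⁻¹ * q b) ω' = ω :=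
    fun a b ω ω' e => by
      rw [show ((1, (q a)⁻¹ * q b) : SL(2, ZMod 3) × SL(2, ZMod 3)) = (1, q a)⁻¹ * (1, q b) by simp,
        map_mul, map_inv, Equiv.Perm.mul_apply, ← e]
      simp
  have free : ∀ ω ∈ z.support, Function.Injective fun a => φ (1, q a) ω := fun ω hω a b e => by
    have h3 := mv a b ω ω e
    refine (hq a b).resolve_right fun h4 => Equiv.Perm.mem_support.1 hω ?_
    rcases h4 with h4 | h4
    · rw [hz', ← h4, h3]
    · rw [hz', ← h4, ← mul_one (1 : SL(2, ZMod 3)), ← Prod.mk_mul_mk, map_mul,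
        Equiv.Perm.mul_apply, h3, h3]
  have tr : ∀ ω ∈ z.support, ∀ ω' ∈ z.support, ∃ k, φ (1, k) ω' = ω := fun ω hω ω' hω' => by
    obtain ⟨x, y, h3, h4⟩ := Fintype.exists_ne_map_eq_of_card_lt
      (Sum.elim (fun a => φ (1, q a) ω) fun a => φ (1, q a) ω') (by simp; omega)
    rcases x with x | x <;> rcases y with y | y
    · exact absurd (congrArg Sum.inl (free ω hω h4)) h3
    · exact ⟨_, mv x y _ _ h4⟩
    · exact ⟨_, mv y x _ _ h4.symm⟩
    · exact absurd (congrArg Sum.inr (free ω' hω' h4)) h3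
  obtain ⟨ω₀, h0⟩ : z.support.Nonempty :=
    Finset.nonempty_iff_ne_empty.2 fun e => h2 (hz ▸ Equiv.Perm.support_eq_empty_iff.1 e)
  have c1 : 8 ≤ z.support.card := by
    simpa using Finset.card_le_card_of_injOn (s := Finset.univ) (fun a => φ (1, q a) ω₀)
      (fun a _ => (mem _ _).2 h0) (free ω₀ h0).injOn
  have c2 : z.support.card ≤ 11 := (Finset.card_le_univ _).trans (by simpa using hm)
  have c3 : 2 ∣ z.support.card := Equiv.Perm.two_dvd_card_support (by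
    rw [hz, ← map_pow, show ((-1, 1) : SL(2, ZMod 3) × SL(2, ZMod 3)) ^ 2 = 1 by simp, map_one])
  have fix : ∀ x : SL(2, ZMod 3), x ^ 3 = 1 → ∀ ω ∈ z.support, φ (x, 1) ω = ω := fun x hx ω hω => by
    have : Fact (Nat.Prime 3) := ⟨Nat.prime_three⟩
    obtain ⟨⟨ω', h3⟩, h4⟩ := Equiv.Perm.exists_fixed_point_of_prime (p := 3) (n := 1)
      (σ := (φ (x, 1)).subtypePerm (p := (· ∈ z.support)) (mem _)) (by rw [Fintype.card_coe]; omega)
      (by
        rw [pow_one, Equiv.Perm.subtypePerm_pow]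
        refine Equiv.ext fun a => Subtype.ext ?_
        change (φ (x, 1) ^ 3) a = a
        rw [← map_pow, Prod.pow_mk, hx, one_pow, Prod.mk_one_one, map_one]
        rfl)
    obtain ⟨k, rfl⟩ := tr ω hω ω' h3
    have h5 : φ (x, 1) ω' = ω' := congrArg Subtype.val h4
    rw [← Equiv.Perm.mul_apply, ← map_mul, show ((x, 1) * (1, k) : SL(2, ZMod 3) × SL(2, ZMod 3)) =
      (1, k) * (x, 1) by simp, map_mul, Equiv.Perm.mul_apply, h5]
  obtain ⟨x, y, hx, hy, e⟩ : ∃ x y : SL(2, ZMod 3), x ^ 3 = 1 ∧ y ^ 3 = 1 ∧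
      x * y * (x * y) * (x * y) = -1 :=
    ⟨⟨!![1, 1; 0, 1], by decide⟩, ⟨!![1, 0; 2, 1], by decide⟩, by decide +kernel⟩
  have h3 : φ (x * y, 1) ω₀ = ω₀ := by
    rw [← mul_one (1 : SL(2, ZMod 3)), ← Prod.mk_mul_mk, map_mul, Equiv.Perm.mul_apply,
      fix y hy _ h0, fix x hx _ h0]
  refine Equiv.Perm.mem_support.1 h0 ?_
  rw [hz, ← e, ← mul_one (1 : SL(2, ZMod 3)), ← mul_one (1 * 1 : SL(2, ZMod 3)), ← Prod.mk_mul_mk,
    ← Prod.mk_mul_mk, map_mul, map_mul, Equiv.Perm.mul_apply, Equiv.Perm.mul_apply, h3, h3, h3]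

end MT

open MT MS

theorem psl_tw (hF : Fintype.card F % 4 = 1) (hd : d.1 = Matrix.diagonal ![-1, -1, 1, 1]) :
    ∃ (n : ℕ) (a b e : DihedralGroup n) (ρ : Dt (DihedralGroup n) →* PSL(4, F)) (t : PSL(4, F)),
      TW n a b e ρ t ∧ rr ρ 1 e e = (QuotientGroup.mk d : PSL(4, F)) := by
  have h1 := Fintype.one_lt_card (α := F)
  obtain ⟨k', m, hm, e⟩ := Nat.exists_eq_two_pow_mul_odd (n := Fintype.card F - 1) (by omega)
  obtain ⟨k, rfl⟩ : ∃ k, k' = k + 2 := by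
    obtain ⟨j, rfl⟩ := hm
    rcases k' with _ | _ | k
    exacts [by omega, by omega, ⟨k, rfl⟩]
  obtain ⟨l, hl, hN⟩ := card_psl1 hF hm (show _ = 2 ^ (k + 2) * m + 1 by omega)
  obtain ⟨ζ, hζ⟩ : ∃ ζ : F, IsPrimitiveRoot ζ (2 ^ (k + 2)) := by
    obtain ⟨g, hg⟩ := IsCyclic.exists_ofOrder_eq_natCard (α := Fˣ)
    rw [Nat.card_units, Nat.card_eq_fintype_card, e] at hg
    refine ⟨(g ^ m : Fˣ), IsPrimitiveRoot.coe_units_iff.2 ?_⟩
    exact (hg ▸ IsPrimitiveRoot.orderOf g).pow (Nat.mul_pos (by positivity) hm.pos) (mul_comm _ _)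
  obtain ⟨ι, hι⟩ : IsSquare (-1 : F) := FiniteField.isSquare_neg_one_iff.2 (by omega)
  replace hι := hι.symm
  have pw : ∃ k', 2 ^ (k + 2) = 2 ^ (k' + 2) := ⟨k, rfl⟩
  have hD := two_D k
  have h2 : 2 ^ (k + 2) = 2 ^ (k + 2) / 2 * 2 := by rw [pow_succ]; omega
  have : NeZero (2 ^ (k + 2)) := ⟨by positivity⟩
  generalize 2 ^ (k + 2) = n at *
  obtain ⟨χ, hχ, hχ'⟩ : ∃ χ : AddChar (ZMod n) F, (∀ a, χ a = 1 → a = 0) ∧
      χ ((n / 2 : ℕ) : ZMod n) = -1 :=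
    ⟨_, fun a => ((AddChar.zmodChar_primitive_of_primitive_root n hζ).zmod_char_eq_one_iff n a).1,
      (AddChar.zmodChar_apply' _ _).trans
        (hζ.pow (NeZero.pos n) h2).eq_neg_one_of_two_right⟩
  have c0 : ∀ a, χ a ≠ 0 := fun a => (χ.val_isUnit a).ne_zero
  have ci : ∀ a b, χ a = χ b → a = b := fun a b e => sub_eq_zero.1 (hχ _ (by
    rw [sub_eq_add_neg, χ.map_add_eq_mul, χ.map_neg_eq_inv, e, mul_inv_cancel₀ (c0 b)]))
  have cm : ∀ x y, χ (ex (x * y)) = fl (ep y) (χ (ex x)) * χ (ex y) := fun x y => by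
    rw [ex_mul, χ.map_add_eq_mul]
    cases ep y
    exacts [rfl, by rw [cond_true, χ.map_neg_eq_inv]; rfl]
  obtain ⟨N, hN'⟩ : ∃ N : Dt (DihedralGroup n) → Matrix (Fin 4) (Fin 4) F, ∀ x y w h,
      N ⟨(x, y, w), h⟩ = Pm F (ep x) (ep y) * Δ (χ (ex x)) (χ (ex y)) (χ (ex w)) :=
    ⟨fun p => Pm F (ep p.1.1) (ep p.1.2.1) * Δ (χ (ex p.1.1)) (χ (ex p.1.2.1)) (χ (ex p.1.2.2)),
      fun _ _ _ _ => rfl⟩
  have lift : ∀ p, ∃ (g : SL(4, F)) (c : F), g.1 = c • N p := by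
    rintro ⟨⟨x, y, w⟩, h⟩
    obtain ⟨j, hj⟩ := ex_Dt ⟨n / 2, by omega⟩ h
    refine ⟨⟨(χ j)⁻¹ • N ⟨_, h⟩, ?_⟩, _, rfl⟩
    rw [Matrix.det_smul, hN', Matrix.det_mul, Pm_det, Δ_det, ← χ.map_add_eq_mul,
      ← χ.map_add_eq_mul, hj, χ.map_add_eq_mul, Fintype.card_fin]
    field_simp [c0 j]
  obtain ⟨ρ, hρ⟩ := exists_proj N lift (by
    rintro ⟨⟨x, y, w⟩, h⟩ ⟨⟨x', y', w'⟩, h'⟩
    obtain ⟨μ, e1⟩ := Δ_Pm (c0 (ex x)) (c0 (ex y)) (c0 (ex w)) (ep x') (ep y')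
    obtain ⟨ν, e2⟩ := Pm_mul (F := F) (ep x) (ep y) (ep x') (ep y')
    refine ⟨μ * ν, ?_⟩
    rw [show (⟨(x, y, w), h⟩ * ⟨(x', y', w'), h'⟩ : Dt (DihedralGroup n)) =
      ⟨(x * x', y * y', w * w'), mul_mem h h'⟩ from rfl, hN', hN', hN', mul_assoc, ← mul_assoc (Δ _ _ _),
      e1, smul_mul_assoc, mul_smul_comm, mul_assoc, ← mul_assoc, e2, Δ_mul, smul_mul_assoc,
      smul_smul, ep_mul, ep_mul, cm, cm, cm, ep_Dt h'])
  obtain ⟨t, ht⟩ : ∃ t : SL(4, F), t.1 = tm ι := ⟨⟨_, tm_det hι⟩, rfl⟩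
  have he : (DihedralGroup.r ((n / 2 : ℕ) : ZMod n) : DihedralGroup n) =
      (DihedralGroup.sr 0 * DihedralGroup.sr 1) ^ (n / 2) := by simp
  refine ⟨n, .sr 0, .sr 1, .r ((n / 2 : ℕ) : ZMod n), ρ, π F t,
    tw_of_card pw isDih he hD ?_ ?_ (fun x y w => ?_) ?_ hl hN, ?_⟩
  · rintro ⟨⟨x, y, w⟩, h⟩
    constructor
    · intro e
      obtain ⟨g, c, hg⟩ := lift ⟨_, h⟩
      obtain ⟨c', hc⟩ := of_π_eq ((hρ _ g c hg).symm.trans e : π F g = π F 1)
      rw [hg, smul_smul, hN'] at hc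
      have h0 : ∀ i, c' * c * (Pm F (ep x) (ep y) * Δ (χ (ex x)) (χ (ex y)) (χ (ex w))) i i = 1 :=
        fun i => by simpa using (congrFun (congrFun hc i) i).symm
      obtain ⟨e1, e2⟩ := ff_of_ne (right_ne_zero_of_mul_eq_one (h0 0))
      have e3 := ep_Dt h
      rw [e1, e2] at e3
      rw [e1, e2, Pm_ff, one_mul] at h0
      have a0 := h0 0
      have a1 := h0 1
      have a2 := h0 2
      have a3 := h0 3
      simp only [Δ, Matrix.diagonal_apply_eq, Matrix.cons_val] at a0 a1 a2 a3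
      have cc := left_ne_zero_of_mul_eq_one a0
      have b2 := ci _ _ (mul_left_cancel₀ cc (a2.trans a1.symm))
      have b3 := ci _ _ (mul_left_cancel₀ cc (a3.trans a1.symm))
      have b0 := mul_left_cancel₀ cc (a0.trans a1.symm)
      rw [b2, b3, mul_assoc, mul_right_eq_self₀, mul_self_eq_one_iff, ← hχ'] at b0
      rcases x with i | i <;> rcases y with j | j <;> rcases w with l | l <;>
        simp only [ep, Bool.true_eq_false, Bool.xor_false] at e1 e2 e3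
      obtain rfl : j = i := b2
      obtain rfl : l = j := b3
      rcases b0.resolve_right (c0 _) with b0 | b0
      · obtain rfl : l = 0 := hχ _ b0
        exact .inl rfl
      · obtain rfl : l = _ := ci _ _ b0
        exact .inr rfl
    · rintro (e | e)
      · rw [show (⟨_, h⟩ : Dt (DihedralGroup n)) = 1 from Subtype.ext e, map_one]
      · obtain ⟨rfl, rfl, rfl⟩ := e
        refine (hρ _ 1 (-1) ?_).trans (map_one _)
        rw [hN']
        simp only [ep, ex, hχ', Pm_ff, one_mul, Δ]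
        ext i j
        fin_cases i <;> fin_cases j <;> simp
  · rw [← map_mul]
    refine (π_eq (b := 1) (Or.inr ?_)).trans (map_one _)
    change t.1 * t.1 = -1
    rw [ht, tm_sq hι]
  · by_cases h : (x, y, w) ∈ Dt (DihedralGroup n)
    · have h' : (x, w, y) ∈ Dt (DihedralGroup n) := by rwa [mem_Dt, mul_comm (Abelianization.of w)]
      obtain ⟨g, c, hg⟩ := lift ⟨_, h⟩
      obtain ⟨μ, e⟩ := tm_Pm hι (ep x) (ep y)
      rw [rr_of_mem _ h, rr_of_mem _ h', hρ _ g c hg, ← map_inv, ← map_mul, ← map_mul]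
      refine (hρ _ _ (c * μ) ?_).symm
      have e1 : t.1 * g.1 = (c * μ) • N ⟨_, h'⟩ * t.1 := by
        rw [hg, ht, hN', hN', mul_smul_comm, ← mul_assoc, e, smul_mul_assoc, smul_smul, mul_assoc,
          Δ_tm, ep_Dt h, smul_mul_assoc, mul_assoc]
      change t.1 * g.1 * (t⁻¹).1 = _
      rw [e1, mul_assoc, show t.1 * (t⁻¹).1 = 1 from congrArg Subtype.val (mul_inv_cancel t), mul_one]
    · have h' : (x, w, y) ∉ Dt (DihedralGroup n) := by rwa [mem_Dt, mul_comm (Abelianization.of w)]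
      rw [rr_of_not _ h, rr_of_not _ h', mul_one, mul_inv_cancel]
  · rintro ⟨⟨⟨x, y, w⟩, h⟩, e⟩
    obtain ⟨g, c, hg⟩ := lift ⟨_, h⟩
    obtain ⟨c', hc⟩ := of_π_eq ((hρ _ g c hg).symm.trans e)
    rw [hg, smul_smul, hN', ht] at hc
    have a0 : ι = c' * c * (Pm F (ep x) (ep y) * Δ (χ (ex x)) (χ (ex y)) (χ (ex w))) 0 0 :=
      congrFun (congrFun hc 0) 0
    obtain ⟨e1, e2⟩ := ff_of_ne (right_ne_zero_of_mul fun e => by
      rw [a0.trans e] at hι; simp at hι)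
    rw [e1, e2, Pm_ff, one_mul] at hc
    simpa [tm, Δ] using congrFun (congrFun hc 2) 3
  · have h : ((1 : DihedralGroup n), DihedralGroup.r ((n / 2 : ℕ) : ZMod n),
        DihedralGroup.r ((n / 2 : ℕ) : ZMod n)) ∈ Dt (DihedralGroup n) := by
      rw [mem_Dt, ← map_mul, ← map_mul, DihedralGroup.r_mul_r, ← Nat.cast_add,
        show n / 2 + n / 2 = n by omega, ZMod.natCast_self, one_mul]
      exact map_one _
    rw [rr_of_mem _ h]
    refine hρ _ d (-1) ?_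
    rw [hN', hd, DihedralGroup.one_def]
    simp only [ep, ex, hχ', Pm_ff, one_mul, Δ, AddChar.map_zero_eq_one]
    ext i j
    fin_cases i <;> fin_cases j <;> simp

theorem psl_dw (hF : Fintype.card F % 4 = 3) (hd : d.1 = Matrix.diagonal ![-1, -1, 1, 1]) :
    ∃ (n : ℕ) (a b e : DihedralGroup n) (ρ : DihedralGroup n × DihedralGroup n →* PSL(4, F))
      (t : PSL(4, F)), DW n a b e ρ t ∧ ρ (e, e) = (QuotientGroup.mk d : PSL(4, F)) := by
  obtain ⟨k, l, hl, hN, r, s, t, h, hr, hs, ht⟩ := psl_dr hF hd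
  obtain ⟨ρ, inj, sw, nm⟩ := DR.exists_hom (X := Cx (π F d)) (k := k) (r := ⟨r, hr⟩) (s := ⟨s, hs⟩)
    (t := ⟨t, ht⟩) ⟨Subtype.ext h.pow, Subtype.ext h.ss, Subtype.ext h.sr, Subtype.ext h.tt,
      Subtype.ext h.rr, Subtype.ext h.rs, Subtype.ext h.ss', fun e => h.ne (congrArg Subtype.val e)⟩
  have : NeZero (2 ^ (k + 2)) := ⟨by positivity⟩
  have hw := dw_of_card (ρ := (Cx (π F d)).subtype.comp ρ) ⟨k, rfl⟩ isDih rfl (two_D k)
    (Subtype.val_injective.comp inj) h.tt (fun x y => congrArg Subtype.val (sw x y))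
    (fun ⟨q, hq⟩ => nm ⟨q, Subtype.ext hq⟩) hl hN
  have hS : Sw ((Cx (π F d)).subtype.comp ρ) t ≤ Cx (π F d) :=
    sup_le (by rintro _ ⟨p, rfl⟩; exact (ρ p).2) (zpowers_le.2 ht)
  refine ⟨_, _, _, _, _, _, hw, ((hw.center_S ?_ hS).resolve_left
    (d_ne (two_ne_zero_of_odd (Nat.odd_iff.2 (by omega))) hd)).symm⟩
  refine hw.syl.le_of_normalizes (isPGroup_zpowers_of_pow (k := 1) ?_) le_top
    (zpowers_le.2 (centralizer_le_normalizer _ fun x hx => mem_Cx.1 (hS hx))) (mem_zpowers _)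
  rw [pow_one, pow_two, ← map_mul, show d * d = 1 from Subtype.ext (dd hd), map_one]

theorem tw_of_psl {G : Type u} [Group G] [Finite G] (hF : Fintype.card F % 4 = 1) (T : Sylow 2 G)
    (P : Sylow 2 PSL(4, F)) (ε : (T : Subgroup G) ≃* (P : Subgroup PSL(4, F))) :
    ∃ (n : ℕ) (a b e : DihedralGroup n) (ρ : Dt (DihedralGroup n) →* G) (t : G),
      TW n a b e ρ t := by
  obtain ⟨n, a, b, e, ρ, t, h, -⟩ := psl_tw hF (d := ⟨Matrix.diagonal ![-1, -1, 1, 1], by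
    rw [Matrix.det_diagonal, Fin.prod_univ_four]; simp⟩) rfl
  obtain ⟨ρ', t', h', -⟩ := h.sub le_rfl
  have top : St ρ' t' = ⊤ :=
    (h'.syl.eq_of_le (h.syl.pgroup.of_equiv topEquiv.symm) le_top le_rfl).symm
  let δ : St ρ t ≃* T := (h.syl.toSylowTop.equiv P).trans ε.symm
  refine ⟨n, a, b, e, _, _, h'.map ((T : Subgroup G).subtype.comp δ.toMonoidHom)
    (fun g _ hg => (map_eq_one_iff _ (Subtype.val_injective.comp δ.injective)).1 hg) ?_⟩
  rw [top, ← MonoidHom.range_eq_map, MonoidHom.range_comp, MonoidHom.range_eq_top.2 δ.surjective,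
    ← MonoidHom.range_eq_map, range_subtype]
  exact IsSylowIn.of_sylow_top T

theorem psl_index_two (hF : Odd (Fintype.card F)) (hd : d.1 = Matrix.diagonal ![-1, -1, 1, 1]) :
    ∃ M ≤ Cx (QuotientGroup.mk d : PSL(4, F)),
      M.relIndex (Cx (QuotientGroup.mk d : PSL(4, F))) = 2 := by
  have h2 := two_ne_zero_of_odd hF
  have key : ∀ g : SL(4, F), π F g ∈ (Cx d).map (π F) ↔ g.1 * d.1 = d.1 * g.1 := fun g => by
    refine ⟨fun ⟨g', h1, h3⟩ => ?_, fun e => ⟨g, mem_Cx.2 (Subtype.ext e), rfl⟩⟩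
    obtain ⟨c, hc⟩ := of_π_eq h3
    rw [hc, smul_mul_assoc, mul_smul_comm]
    exact congrArg (c • ·) (congrArg Subtype.val (show g' * d = d * g' from mem_Cx.1 h1))
  have ne : ∀ g : SL(4, F), g.1 * d.1 = d.1 * g.1 → g.1 * d.1 ≠ -(d.1 * g.1) := fun g e e' => by
    rw [e, eq_neg_iff_add_eq_zero, ← two_smul F, smul_eq_zero_iff_right h2] at e'
    have := (d * g : SL(4, F)).2
    rw [show (d * g : SL(4, F)).1 = 0 from e', Matrix.det_zero] at this
    exact zero_ne_one this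
  refine ⟨(Cx d).map (π F), ?_, relIndex_eq_two_iff.2 ⟨_, bt_mem_Cx hd, fun b hb => ?_⟩⟩
  · rintro _ ⟨g, hg, rfl⟩
    exact mem_Cx.2 ((map_mul (π F) _ _).symm.trans ((congrArg _ (mem_Cx.1 hg)).trans (map_mul _ _ _)))
  · obtain ⟨g, rfl⟩ := QuotientGroup.mk'_surjective _ b
    rw [← map_mul, key, key]
    have e1 : (g * bS F).1 * d.1 = -(g.1 * d.1 * bt F) := by
      change g.1 * bt F * d.1 = _
      rw [mul_assoc, bt_d hd, mul_neg, mul_assoc]
    rcases comm_or hd hb with e | e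
    · refine .inr ⟨e, fun e' => ne _ e' ?_⟩
      rw [e1, e, mul_assoc]; rfl
    · refine .inl ⟨?_, fun e' => ne _ e' e⟩
      rw [e1, e, neg_mul, neg_neg, mul_assoc]; rfl

/-- the blocks `SL₂ × SL₂` -/
theorem psl_blocks (hF : Odd (Fintype.card F)) (hd : d.1 = Matrix.diagonal ![-1, -1, 1, 1]) :
    ∃ (φ : SL(2, F) × SL(2, F) →* PSL(4, F)) (τ u : PSL(4, F)), Wr (-1) φ τ ∧
      φ (-1, 1) = (QuotientGroup.mk d : PSL(4, F)) ∧
      Cx (φ (-1, 1)) ≤ normalizer (φ.range : Set PSL(4, F)) ∧ u * u = 1 ∧ Ac1 φ u (dgm F) := by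
  have h2 := two_ne_zero_of_odd hF
  have ez : (π F).comp (bh F) (-1, 1) = π F d := π_eq (Or.inl (d_eq hd).symm)
  have sw : ∀ a b, π F (bS F) * (π F).comp (bh F) (a, b) * (π F (bS F))⁻¹ =
      (π F).comp (bh F) (b, a) := fun a b => by
    rw [mul_inv_eq_iff_eq_mul]
    exact (map_mul _ _ _).symm.trans ((π_eq (Or.inl bt_bd)).trans (map_mul _ _ _))
  have nb : ∀ g : SL(4, F), g.1 * d.1 = d.1 * g.1 →
      π F g ∈ normalizer (((π F).comp (bh F)).range : Set PSL(4, F)) := fun g hg => by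
    obtain ⟨x, y, e⟩ := exists_bd h2 hd hg
    have h1 := g.2
    rw [e, bd_det] at h1
    have ux : IsUnit x.det := (left_ne_zero_of_mul_eq_one h1).isUnit
    have uy : IsUnit y.det := (right_ne_zero_of_mul_eq_one h1).isUnit
    refine mem_normalizer_of_forall ?_
    rintro _ ⟨⟨a, b⟩, rfl⟩
    refine ⟨(⟨x * a.1 * x⁻¹, by rw [Matrix.det_conj ((Matrix.isUnit_iff_isUnit_det x).2 ux), a.2]⟩,
      ⟨y * b.1 * y⁻¹, by rw [Matrix.det_conj ((Matrix.isUnit_iff_isUnit_det y).2 uy), b.2]⟩), ?_⟩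
    rw [eq_mul_inv_iff_mul_eq]
    refine (map_mul _ _ _).symm.trans ((π_eq (Or.inl ?_)).trans (map_mul _ _ _))
    change bd (x * a.1 * x⁻¹) (y * b.1 * y⁻¹) * g.1 = g.1 * bd a.1 b.1
    rw [e, bd_mul, bd_mul, Matrix.nonsing_inv_mul_cancel_right _ _ ux,
      Matrix.nonsing_inv_mul_cancel_right _ _ uy]
  have gg : (dgm F).1 * (dgm F).1 = 1 := (dgm F).val_inv
  refine ⟨(π F).comp (bh F), π F (bS F), π F ⟨bd (dgm F).1 (dgm F).1, by
    rw [bd_det, ← Matrix.det_mul, gg, Matrix.det_one]⟩,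
    ⟨fun e => xu_ne_neg h2 0 0 (by rw [xu_zero]; exact e.symm), by simp, by simp, fun a b => ?_,
      (map_mul _ _ _).symm.trans ((π_eq (Or.inl bt_bt)).trans (map_one _)), sw, ?_⟩, ez, ?_, ?_,
    fun a b e => ?_⟩
  · refine ⟨fun e => ?_, ?_⟩
    · obtain ⟨c, hc⟩ := of_π_eq (e.symm : π F 1 = π F (bh F (a, b)))
      change bd a.1 b.1 = c • (1 : Matrix (Fin 4) (Fin 4) F) at hc
      rw [← bd_one, ← bd_smul] at hc
      obtain ⟨c1, c2⟩ := bd_inj hc
      have h1 := a.2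
      rw [c1, Matrix.det_smul, Matrix.det_one, Fintype.card_fin, mul_one, pow_two,
        mul_self_eq_one_iff] at h1
      rcases h1 with rfl | rfl
      · exact .inl ⟨Subtype.ext (c1.trans (one_smul _ _)), Subtype.ext (c2.trans (one_smul _ _))⟩
      · exact .inr ⟨Subtype.ext (c1.trans (neg_one_smul _ _)),
          Subtype.ext (c2.trans (neg_one_smul _ _))⟩
    · rintro (⟨rfl, rfl⟩ | ⟨rfl, rfl⟩)
      · exact map_one _
      · exact (π_eq (b := 1) (Or.inr (bd_neg.trans (congrArg Neg.neg bd_one)))).trans (map_one _)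
  · rintro ⟨⟨a, b⟩, e⟩
    obtain ⟨c, hc⟩ := of_π_eq e
    change bt F = c • bd a.1 b.1 at hc
    have := congrArg (· * d.1) hc
    simp only [bt_d hd] at this
    rw [hc, d_eq hd, mul_smul_comm, smul_mul_assoc, bd_mul, bd_mul, mul_neg_one, neg_one_mul, mul_one,
      one_mul, neg_eq_iff_add_eq_zero, ← two_smul F, smul_eq_zero_iff_right h2] at this
    have h3 := bt_det (F := F)
    have h4 := congrArg Matrix.det this
    rw [hc, Matrix.det_smul, bd_det] at h3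
    rw [Matrix.det_smul, bd_det, Matrix.det_neg, Matrix.det_zero, Fintype.card_fin 2] at h4
    exact one_ne_zero (by linear_combination h4 - h3)
  · rw [ez]
    intro x hx
    obtain ⟨g, rfl⟩ := QuotientGroup.mk'_surjective _ x
    rcases comm_or hd hx with e | e
    · exact nb g e
    · have h1 := nb (g * bS F) (by
        change g.1 * bt F * d.1 = d.1 * (g.1 * bt F)
        rw [mul_assoc, bt_d hd, mul_neg, ← mul_assoc, e, neg_mul, neg_neg, mul_assoc])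
      rw [map_mul] at h1
      refine (mul_mem_cancel_right (mem_normalizer_of_forall ?_)).1 h1
      rintro _ ⟨⟨a, b⟩, rfl⟩
      exact ⟨_, (sw a b).symm⟩
  · refine (map_mul _ _ _).symm.trans ((π_eq (b := 1) (Or.inl ?_)).trans (map_one _))
    exact bd_mul.trans (by rw [gg, bd_one]; rfl)
  · rw [mul_inv_eq_iff_eq_mul]
    refine (map_mul _ _ _).symm.trans ((π_eq (Or.inl ?_)).trans (map_mul _ _ _))
    change bd (dgm F).1 (dgm F).1 * bd a.1 1 = bd b.1 1 * bd (dgm F).1 (dgm F).1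
    rw [bd_mul, bd_mul, e, mul_one, one_mul]

/-- `SL₂(3) ∘ SL₂(3)` is not a subgroup of `S₁₁` -/
theorem not_wr_perm (h3 : Fintype.card F = 3) {m : ℕ} (hm : m ≤ 11)
    (φ : SL(2, F) × SL(2, F) →* Equiv.Perm (Fin m))
    (hφ : ∀ a b, φ (a, b) = 1 ↔ a = 1 ∧ b = 1 ∨ a = -1 ∧ b = -1) : False := by
  have : Fact (Nat.Prime 3) := ⟨Nat.prime_three⟩
  let f : SL(2, ZMod 3) →* SL(2, F) :=
    Matrix.SpecialLinearGroup.map (ZMod.ringEquivOfPrime F Nat.prime_three h3).toRingHom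
  have e : f (-1) = -1 := Subtype.ext (by
    ext i j; fin_cases i <;> fin_cases j <;> simp [f])
  have ne : (-1 : SL(2, F)) ≠ 1 := fun e =>
    xu_ne_neg (two_ne_zero_of_odd (F := F) (by rw [h3]; decide)) 0 0 (by rw [xu_zero]; exact e.symm)
  refine not_wr hm (φ.comp (f.prodMap f)) ?_ fun h => ?_
  · exact (hφ _ _).2 (.inr ⟨e, e⟩)
  · rcases (hφ _ _).1 h with ⟨h1, -⟩ | ⟨-, h1⟩
    · exact ne (e.symm.trans h1)
    · exact ne (h1.symm.trans (map_one f))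

end CfsgLib.GHC
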