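import Mathlib
import Cfsg.Agent.Lib.GHC.Mod2b
import Cfsg.Agent.Lib.GHC.HL2b

/-! Package HL2: the structure of `C(z₀)/O(C(z₀))`; the theorems are in `HL2b`. -/
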