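import Mathlib
import Cfsg.Agent.Lib.GHC.ModS
import Cfsg.Agent.Lib.GHC.Bas

/-! The centraliser of `diag(-1, -1, 1, 1)` in `PSL₄(q)`.  See `plans/GHC.md`, part 3. -/

set_option autoImplicit false
set_option linter.unusedSectionVars false

namespace CfsgLib.GHC

open Subgroup Cfsg CfsgLib.W2 CfsgLib.Tech CfsgLib.PComp CfsgLib.Abel2 CfsgLib.GHA CfsgLib.DihSyl
  CfsgLib.GW.Cor
open scoped MatrixGroups commutatorElement

universe u

variable {G : Type u} [Group G] {F : Type*} [Field F]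

/-- The block structure of `C(z)`, `z = φ (-1, 1)`: it is `K ⟨δ, τ⟩`, dihedral modulo
`K = SL₂ ∘ SL₂`. -/
structure Bk [Fintype F] (φ : SL(2, F) × SL(2, F) →* G) (τ u δ : G) : Prop where
  odd : Odd (Fintype.card F)
  wr : Wr (-1) φ τ
  uu : u * u = 1
  act : Ac1 φ u (dgm F)
  δz : δ ∈ Cx (φ (-1, 1))
  n12 : N12 φ δ
  inv : τ * δ * τ⁻¹ = δ⁻¹
  gen : ∀ h ∈ Cx (φ (-1, 1)), ∃ k ∈ φ.range, ∃ m : ℤ, h = k * δ ^ m ∨ h = k * δ ^ m * τ
  cent : ∀ x ∈ Cx (φ (-1, 1)), x * x = 1 → ∀ j k : SL(2, F), j * j = -1 → k * j * k⁻¹ = j⁻¹ →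
    x ∈ Cx (φ (j, 1)) → x ∈ Cx (φ (k, 1)) → x ∈ Cx (φ (1, j)) → x ∈ Cx (φ (1, k)) →
      x = 1 ∨ x = φ (-1, 1)

namespace BK

open Matrix MS

theorem π_smul {a b : SL(4, F)} {c : F} (h : a.1 = c • b.1) : π F a = π F b := by
  refine QuotientGroup.eq.2 (mem_center_iff.2 fun g => (mul_right_inj a).1 ?_)
  have e : ∀ x : SL(4, F), a * x * a⁻¹ = b * x * b⁻¹ := fun x => by
    rw [mul_inv_eq_iff_eq_mul]
    refine Subtype.ext ?_
    have : (b * x * b⁻¹ * b).1 = (b * x).1 := by rw [inv_mul_cancel_right]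
    simp only [Matrix.SpecialLinearGroup.coe_mul] at this ⊢
    rw [h, mul_smul_comm, this, smul_mul_assoc]
  rw [← mul_assoc, ← mul_assoc, e, ← mul_assoc, mul_inv_cancel_left, inv_mul_cancel_right]

/-- the block diagonal embedding -/
def blk (F : Type*) [Field F] : SL(2, F) × SL(2, F) →* SL(4, F) where
  toFun p := ⟨bd p.1.1 p.2.1, by rw [bd_det, p.1.2, p.2.2, mul_one]⟩
  map_one' := Subtype.ext bd_one
  map_mul' _ _ := Subtype.ext bd_mul.symm

/-- the block swap -/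
def sT (F : Type*) [Field F] : SL(4, F) := ⟨bt F, bt_det⟩

/-- `diag(l, 1, l⁻¹, 1)` -/
def dl (F : Type*) [Field F] : Fˣ →* SL(4, F) where
  toFun l := ⟨bd !![(l : F), 0; 0, 1] !![((l⁻¹ : Fˣ) : F), 0; 0, 1], by simp [bd_det]⟩
  map_one' := Subtype.ext (by simp [← one_fin_two, bd_one])
  map_mul' _ _ := Subtype.ext (Eq.trans (by simp [mul_comm]) bd_mul.symm)

theorem blk_val (a b : SL(2, F)) : (blk F (a, b)).1 = bd a.1 b.1 := rfl

theorem dl_val (l : Fˣ) :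
    (dl F l).1 = bd !![(l : F), 0; 0, 1] !![((l⁻¹ : Fˣ) : F), 0; 0, 1] := rfl

theorem sT_sT : sT F * sT F = 1 := Subtype.ext bt_bt

theorem act {x : SL(4, F)} {A B : Matrix (Fin 2) (Fin 2) F} (hx : x.1 = bd A B)
    {a b c d : SL(2, F)} (hc : c.1 * A = A * a.1) (hd : d.1 * B = B * b.1) :
    π F x * ((π F).comp (blk F)) (a, b) * (π F x)⁻¹ = ((π F).comp (blk F)) (c, d) := by
  rw [mul_inv_eq_iff_eq_mul, MonoidHom.comp_apply, MonoidHom.comp_apply, ← map_mul, ← map_mul]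
  refine π_eq (Or.inl ?_)
  show x.1 * bd a.1 b.1 = bd c.1 d.1 * x.1
  rw [hx, bd_mul, bd_mul, hc, hd]

theorem ex_cg {A : Matrix (Fin 2) (Fin 2) F} (hA : A.det ≠ 0) (a : SL(2, F)) :
    ∃ b : SL(2, F), b.1 * A = A * a.1 :=
  exists_cg (GeneralLinearGroup.mkOfDetNeZero A hA) a

theorem blocks (h2 : (2 : F) ≠ 0) {x : SL(4, F)}
    (hx : π F x ∈ Cx (((π F).comp (blk F)) (-1, 1))) :
    ∃ y : SL(4, F), (∃ A B, A.det * B.det = 1 ∧ y.1 = bd A B) ∧ (x = y ∨ x = y * sT F) := by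
  obtain ⟨c, hc⟩ := of_π_eq (a := x * blk F (-1, 1)) (b := blk F (-1, 1) * x) (by
    rw [map_mul, map_mul]; exact mem_Cx.1 hx)
  obtain ⟨M, hM⟩ := (reindexAlgEquiv F F (finSumFinEquiv (m := 2) (n := 2))).surjective x.1
  rw [← fromBlocks_toBlocks M] at hM
  generalize M.toBlocks₁₁ = A, M.toBlocks₁₂ = B, M.toBlocks₂₁ = C, M.toBlocks₂₂ = E at hM
  have e : bd (-1) 1 * x.1 = c • (x.1 * bd (-1) 1) := hc
  rw [← hM, bd, ← map_mul, ← map_mul, ← map_smul, fromBlocks_multiply, fromBlocks_multiply,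
    fromBlocks_smul] at e
  obtain ⟨e1, e2, e3, e4⟩ := fromBlocks_inj.1 ((reindexAlgEquiv F F finSumFinEquiv).injective e)
  simp only [neg_mul, one_mul, mul_neg, mul_one, Matrix.zero_mul, Matrix.mul_zero, add_zero,
    zero_add, smul_neg, neg_inj] at e1 e2 e3 e4
  have key : ∀ {N : Matrix (Fin 2) (Fin 2) F} {r : F}, r ≠ 0 → r • N = 0 → N = 0 :=
    fun hr h => (smul_eq_zero.1 h).resolve_left hr
  by_cases h1 : c = 1
  · subst h1
    rw [one_smul] at e2 e3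
    obtain rfl : B = 0 := key h2 (by rw [two_smul]; exact (eq_neg_iff_add_eq_zero.1 e2.symm))
    obtain rfl : C = 0 := key h2 (by rw [two_smul]; exact (eq_neg_iff_add_eq_zero.1 e3))
    exact ⟨x, ⟨A, E, by rw [← bd_det, bd, hM, x.2], hM.symm⟩, Or.inl rfl⟩
  · obtain rfl : A = 0 := key (sub_ne_zero.2 h1) (by rw [sub_smul, one_smul, ← e1, sub_self])
    obtain rfl : E = 0 := key (sub_ne_zero.2 h1) (by rw [sub_smul, one_smul, ← e4, sub_self])
    have e5 : (x * sT F).1 = bd B C := by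
      show x.1 * bt F = _
      rw [← hM, bt, ← map_mul, fromBlocks_multiply]
      simp [bd]
    exact ⟨x * sT F, ⟨B, C, by rw [← bd_det, ← e5, (x * sT F).2], e5⟩,
      Or.inr (by rw [mul_assoc, sT_sT, mul_one])⟩

theorem wr (h2 : (2 : F) ≠ 0) : Wr (-1) ((π F).comp (blk F)) (π F (sT F)) := by
  have sw : ∀ a b, π F (sT F) * ((π F).comp (blk F)) (a, b) * (π F (sT F))⁻¹ =
      ((π F).comp (blk F)) (b, a) := fun a b => by
    rw [mul_inv_eq_iff_eq_mul, MonoidHom.comp_apply, MonoidHom.comp_apply, ← map_mul, ← map_mul]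
    exact π_eq (Or.inl bt_bd)
  have ker : ∀ a b, ((π F).comp (blk F)) (a, b) = 1 ↔ a = 1 ∧ b = 1 ∨ a = -1 ∧ b = -1 :=
    fun a b => by
      refine ⟨fun h => ?_, ?_⟩
      · obtain ⟨c, hc⟩ := of_π_eq (a := 1) (b := blk F (a, b)) (by rw [map_one]; exact h.symm)
        have e : bd a.1 b.1 = c • (1 : Matrix (Fin 4) (Fin 4) F) := hc
        rw [← bd_one, ← bd_smul] at e
        obtain ⟨e1, e2⟩ := bd_inj e
        have e3 := a.2
        rw [e1, det_smul, det_one, Fintype.card_fin, mul_one, sq, mul_self_eq_one_iff] at e3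
        rcases e3 with rfl | rfl
        · exact Or.inl ⟨Subtype.ext (by simpa using e1), Subtype.ext (by simpa using e2)⟩
        · exact Or.inr ⟨Subtype.ext (by simpa using e1), Subtype.ext (by simpa using e2)⟩
      · rintro (⟨rfl, rfl⟩ | ⟨rfl, rfl⟩)
        · exact map_one _
        · exact (π_eq (b := 1) (Or.inr (bd_neg.trans (congrArg Neg.neg bd_one)))).trans (map_one _)
  refine ⟨SL2.neg_one_ne_one h2, by simp, by simp, ker, by rw [← map_mul, sT_sT, map_one], sw, ?_⟩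
  rintro ⟨⟨a, b⟩, h⟩
  obtain ⟨c, hc⟩ := of_π_eq (a := blk F (a, b)) (b := sT F) h
  have := congrFun (congrFun hc 0) 2
  rw [blk_val] at this
  simp [sT, bt, bd, finSumFinEquiv, Fin.addCases] at this

end BK

open BK MS Matrix in
theorem psl_bk [Fintype F] (hF : Odd (Fintype.card F)) {d : SL(4, F)}
    (hd : d.1 = Matrix.diagonal ![-1, -1, 1, 1]) :
    ∃ (φ : SL(2, F) × SL(2, F) →* PSL(4, F)) (τ u δ : PSL(4, F)), Bk φ τ u δ ∧
      φ (-1, 1) = (QuotientGroup.mk d : PSL(4, F)) := by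
  have h2 := two_ne_zero_of_odd hF
  have w := wr h2
  obtain ⟨l, hl⟩ := IsCyclic.exists_generator (α := Fˣ)
  have dg : (dgm F).1.det = -1 := by simp [dgm]
  have n1 : ∀ {x : SL(4, F)} {A B}, A.det * B.det = 1 → x.1 = bd A B →
      N12 ((π F).comp (blk F)) (π F x) := fun {x A B} h hx =>
    ⟨norm_L1 fun a => (ex_cg (left_ne_zero_of_mul_eq_one h) a).imp fun b hb =>
      act hx hb (by simp), norm_L2 fun a => (ex_cg (right_ne_zero_of_mul_eq_one h) a).imp
        fun b hb => act hx (by simp) hb⟩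
  obtain ⟨u, hu⟩ : ∃ u : SL(4, F), u.1 = bd (dgm F).1 (dgm F).1 := ⟨⟨_, by simp [bd_det, dg]⟩, rfl⟩
  refine ⟨(π F).comp (blk F), π F (sT F), π F u,
    π F (dl F l), ⟨hF, w, ?_, fun a b hb => act hu hb (by simp), mem_Cx'.2 (act rfl (by simp)
      (by simp)), n1 (by simp) rfl, ?_, fun h hh => ?_, fun x hx xx j k jj kj c1 c2 c3 c4 => ?_⟩, ?_⟩
  · rw [← map_mul, ← map_one (π F)]
    refine π_eq (Or.inl (show u.1 * u.1 = 1 from ?_))
    rw [hu, bd_mul, show (dgm F).1 * (dgm F).1 = 1 from (dgm F).3, bd_one]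
  · rw [mul_inv_eq_iff_eq_mul, ← map_inv, ← map_inv, ← map_mul, ← map_mul]
    refine π_eq (Or.inl (bt_bd.trans (show _ = (dl F l⁻¹).1 * bt F from ?_)))
    rw [dl_val, inv_inv]
  · obtain ⟨x, rfl⟩ := QuotientGroup.mk'_surjective _ h
    obtain ⟨y, ⟨A, B, e1, e2⟩, hy⟩ := blocks h2 hh
    obtain ⟨m, hm⟩ := mem_zpowers_iff.1 (hl (Units.mk0 A.det (left_ne_zero_of_mul_eq_one e1)))
    obtain ⟨p, e3⟩ : ∃ p, y = blk F p * dl F l ^ m := by
      refine ⟨(⟨A * !![A.det⁻¹, 0; 0, 1], by simp [left_ne_zero_of_mul_eq_one e1]⟩,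
        ⟨B * !![A.det, 0; 0, 1], by simp [mul_comm, e1]⟩), ?_⟩
      rw [← map_zpow, hm]
      refine Subtype.ext (e2.trans (Eq.trans ?_ bd_mul.symm))
      simp [mul_assoc, left_ne_zero_of_mul_eq_one e1, ← one_fin_two]
    refine ⟨_, ⟨p, rfl⟩, m, hy.imp (fun e => ?_) fun e => ?_⟩
    · rw [e, e3, map_mul, map_zpow]; rfl
    · rw [e, e3, map_mul, map_mul, map_zpow]; rfl
  · obtain ⟨x, rfl⟩ := QuotientGroup.mk'_surjective _ x
    obtain ⟨y, ⟨A, B, e1, e2⟩, rfl | rfl⟩ := blocks h2 hx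
    · have s : ∀ {M : Matrix (Fin 2) (Fin 2) F}, (∀ c : SL(2, F), c = j ∨ c = k → c.1 * M = M * c.1) →
          ∃ r : F, M = r • (1 : Matrix (Fin 2) (Fin 2) F) := fun h => by
        rw [mul_inv_eq_iff_eq_mul, S2.inv_eq jj, neg_mul] at kj
        exact scalar_of_comm (g := Matrix.SpecialLinearGroup.toGL j) (w := k) h2
          (SL2.tr_eq_trace j ▸ S2.tr_zero h2 jj) (congrArg Subtype.val kj) (h j (Or.inl rfl)).symm
          (h k (Or.inr rfl)).symm
      obtain ⟨r, rfl⟩ := s (M := A) fun c hc => by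
        obtain ⟨b, hb⟩ := ex_cg (left_ne_zero_of_mul_eq_one e1) c
        have := act e2 hb (show (1 : SL(2, F)).1 * B = B * (1 : SL(2, F)).1 by simp)
        rw [mem_Cx'.1 (hc.elim (fun e => e ▸ c1) fun e => e ▸ c2)] at this
        rwa [← WL.inl_inj w this] at hb
      obtain ⟨s, rfl⟩ := s (M := B) fun c hc => by
        obtain ⟨b, hb⟩ := ex_cg (right_ne_zero_of_mul_eq_one e1) c
        have := act e2 (show (1 : SL(2, F)).1 * (r • 1) = (r • 1) * (1 : SL(2, F)).1 by simp) hb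
        rw [mem_Cx'.1 (hc.elim (fun e => e ▸ c3) fun e => e ▸ c4)] at this
        rwa [← WL.inl_inj (wr_sw w) this] at hb
      obtain ⟨c, hc⟩ := of_π_eq (a := 1) (b := x * x) (by rw [map_one, map_mul]; exact xx.symm)
      have e : x.1 * x.1 = c • (1 : Matrix (Fin 4) (Fin 4) F) := hc
      rw [e2, bd_mul, ← bd_one, ← bd_smul] at e
      have e3 := congrFun (congrFun ((bd_inj e).1.trans (bd_inj e).2.symm) 0) 0
      simp only [smul_mul_smul_comm, mul_one, Matrix.smul_apply, one_apply_eq, smul_eq_mul] at e3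
      rcases mul_self_eq_mul_self_iff.1 e3 with rfl | rfl
      · exact Or.inl ((π_smul (b := 1) (e2.trans (bd_smul r |>.trans (by rw [bd_one]; rfl)))).trans
          (map_one _))
      · refine Or.inr (π_smul (b := blk F (-1, 1)) (c := s) (e2.trans ?_))
        show _ = s • bd (-1) 1
        rw [← bd_smul, smul_neg, neg_smul]
    · exfalso
      obtain ⟨b, hb⟩ := ex_cg (right_ne_zero_of_mul_eq_one e1) j
      have := act e2 (show (1 : SL(2, F)).1 * A = A * (1 : SL(2, F)).1 by simp) hb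
      rw [← w.swap j 1, ← mul_assoc, ← mul_assoc, mul_assoc _ _ (π F y)⁻¹, ← _root_.mul_inv_rev,
        ← map_mul, mem_Cx'.1 c1, w.eq_iff] at this
      rcases this with ⟨rfl, -⟩ | ⟨rfl, -⟩ <;> exact w.e_ne (by simpa using jj.symm)
  · refine π_eq (Or.inl (Eq.trans (show bd (-1) 1 = _ from ?_) hd.symm))
    ext i j
    fin_cases i <;> fin_cases j <;> simp [bd, finSumFinEquiv, Fin.addCases, one_apply, Fin.ext_iff]

end CfsgLib.GHC
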